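import Mathlib.RingTheory.MvPolynomial.Homogeneous
import Mathlib.RingTheory.GradedAlgebra.Homogeneous.Ideal
import Mathlib.RingTheory.Polynomial.UniqueFactorization
import Mathlib.LinearAlgebra.Matrix.NonsingularInverse
import Mathlib.LinearAlgebra.Matrix.Block
import Mathlib.RingTheory.Ideal.Operations
import Mathlib.Algebra.Polynomial.Degree.TrailingDegree
import Mathlib.Algebra.MvPolynomial.NoZeroDivisors

/-!
Algebra behind general maps between sums of line bundles: minors, banded matrices, openness.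
-/

set_option autoImplicit false
set_option linter.unusedSectionVars false
set_option linter.style.haveILetI false

universe u v w

open MvPolynomial Matrix

noncomputable section

namespace Groth.Agent.GaetaGen

section Generic

variable {k : Type u} [Field k] {σ : Type w} [Fintype σ] [DecidableEq σ] {m : ℕ}

/-- Specialisation of the parameters. -/
abbrev ev (v : Fin m → k) : MvPolynomial σ (MvPolynomial (Fin m) k) →+* MvPolynomial σ k :=
  MvPolynomial.map (MvPolynomial.eval v)

lemma ev_mapC (v : Fin m → k) (h : MvPolynomial σ k) :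
    ev v (MvPolynomial.map (MvPolynomial.C : k →+* MvPolynomial (Fin m) k) h) = h := by
  rw [ev, MvPolynomial.map_map]
  rw [show (MvPolynomial.eval v).comp (MvPolynomial.C : k →+* MvPolynomial (Fin m) k) = RingHom.id k from
    RingHom.ext fun x => eval_C x, MvPolynomial.map_id]

/-- The universal element of a linear family of forms. -/
def univ {V : Type*} [AddCommGroup V] [Module k V] (c : V ≃ₗ[k] (Fin m → k)) (ℓ : V →ₗ[k] MvPolynomial σ k) :
    MvPolynomial σ (MvPolynomial (Fin m) k) :=
  ∑ l : Fin m, MvPolynomial.C (X l) *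
    MvPolynomial.map (MvPolynomial.C : k →+* MvPolynomial (Fin m) k) (ℓ (c.symm (Pi.single l 1)))

lemma ev_univ {V : Type*} [AddCommGroup V] [Module k V] (c : V ≃ₗ[k] (Fin m → k))
    (ℓ : V →ₗ[k] MvPolynomial σ k) (v : Fin m → k) : ev v (univ c ℓ) = ℓ (c.symm v) := by
  conv_rhs => rw [pi_eq_sum_univ' v, map_sum, map_sum]
  rw [univ, map_sum]
  refine Finset.sum_congr rfl fun l _ => ?_
  rw [map_mul, ev_mapC, ev, MvPolynomial.map_C, eval_X, map_smul, map_smul, MvPolynomial.smul_eq_C_mul]

/-- Openness: if powers of all variables lie in the ideal at one parameter, they do so off a hypersurface. -/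
theorem exists_generic {τ : Type*} [Fintype τ] [Nonempty σ]
    (F : τ → MvPolynomial σ (MvPolynomial (Fin m) k))
    (hF : ∀ v t, ∃ D, (ev v (F t)).IsHomogeneous D) (v₀ : Fin m → k) (N : ℕ)
    (h0 : ∀ s, (X s : MvPolynomial σ k) ^ N ∈ Ideal.span (Set.range fun t => ev v₀ (F t))) :
    ∃ p : MvPolynomial (Fin m) k, MvPolynomial.eval v₀ p ≠ 0 ∧ ∀ v, MvPolynomial.eval v p ≠ 0 →
      ∀ s, (X s : MvPolynomial σ k) ^ (Fintype.card σ * N) ∈ Ideal.span (Set.range fun t => ev v (F t)) := by
  classical
  letI := MvPolynomial.gradedAlgebra (σ := σ) (R := k)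
  set M := Fintype.card σ * N with hM
  let E := ↥(Finset.finsuppAntidiag (Finset.univ : Finset σ) M)
  have hE : ∀ d : σ →₀ ℕ, d ∈ Finset.finsuppAntidiag (Finset.univ : Finset σ) M ↔ d.degree = M := fun d => by
    rw [Finset.mem_finsuppAntidiag, Finsupp.degree_eq_sum]
    simp
  have hmem : ∀ e : E, monomial e.1 (1 : k) ∈ Ideal.span (Set.range fun t => ev v₀ (F t)) := by
    intro e
    obtain ⟨s, hs⟩ : ∃ s, N ≤ e.1 s := by
      by_contra hne
      push Not at hne
      have h1 : ∑ s, e.1 s < ∑ _s : σ, N := Finset.sum_lt_sum_of_nonempty Finset.univ_nonempty fun s _ => hne s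
      have h2 : ∑ s, e.1 s = M := (Finsupp.degree_eq_sum e.1).symm.trans ((hE _).1 e.2)
      rw [h2, hM, Finset.sum_const, Finset.card_univ, smul_eq_mul] at h1
      exact lt_irrefl _ h1
    have hle : Finsupp.single s N ≤ e.1 := Finsupp.single_le_iff.2 hs
    rw [← tsub_add_cancel_of_le hle, ← one_mul (1 : k), ← monomial_mul, ← X_pow_eq_monomial]
    exact Ideal.mul_mem_left _ _ (h0 s)
  choose h hh using fun e => (Ideal.mem_span_range_iff_exists_fun).1 (hmem e)
  let Q : E → MvPolynomial σ (MvPolynomial (Fin m) k) := fun e =>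
    ∑ t, MvPolynomial.map (MvPolynomial.C : k →+* MvPolynomial (Fin m) k) (h e t) * F t
  have hQ : ∀ v e, ev v (Q e) = ∑ t, h e t * ev v (F t) := fun v e => by
    simp only [Q, map_sum, map_mul, ev_mapC]
  let A : Matrix E E (MvPolynomial (Fin m) k) := Matrix.of fun e e' => coeff e'.1 (Q e)
  have hA : ∀ v, A.map (MvPolynomial.eval v) = Matrix.of fun e e' : E => coeff e'.1 (ev v (Q e)) := fun v => by
    ext e e'
    simp [A, ev, coeff_map]
  refine ⟨A.det, ?_, fun v hv s => ?_⟩
  · rw [RingHom.map_det, RingHom.mapMatrix_apply, hA]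
    have h1 : (Matrix.of fun e e' : E => coeff e'.1 (ev v₀ (Q e))) = 1 := by
      ext e e'
      rw [Matrix.of_apply, hQ, hh, coeff_monomial, Matrix.one_apply]
      by_cases hee : e = e'
      · rw [if_pos (congrArg Subtype.val hee), if_pos hee]
      · rw [if_neg fun hc => hee (Subtype.ext hc), if_neg hee]
    rw [h1, det_one]
    exact one_ne_zero
  · rw [RingHom.map_det, RingHom.mapMatrix_apply, hA] at hv
    set B := (Matrix.of fun e e' : E => coeff e'.1 (ev v (Q e))) with hB
    let es : E := ⟨Finsupp.single s M, (hE _).2 (Finsupp.degree_single s M)⟩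
    let P : MvPolynomial σ k := ∑ e : E, MvPolynomial.C (B⁻¹ es e) * ev v (Q e)
    have hP : P ∈ Ideal.span (Set.range fun t => ev v (F t)) := by
      refine Ideal.sum_mem _ fun e _ => Ideal.mul_mem_left _ _ ?_
      rw [hQ]
      exact Ideal.sum_mem _ fun t _ => Ideal.mul_mem_left _ _ (Ideal.subset_span ⟨t, rfl⟩)
    have hhom := Ideal.homogeneous_span (homogeneousSubmodule σ k) (Set.range fun t => ev v (F t))
      (by rintro _ ⟨t, rfl⟩; obtain ⟨D, hD⟩ := hF v t; exact ⟨D, hD⟩)
    have hc : homogeneousComponent M P ∈ Ideal.span (Set.range fun t => ev v (F t)) := by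
      have h' := hhom M hP
      rw [← MvPolynomial.decomposition.decompose'_apply P M]
      exact h'
    convert hc using 1
    ext d
    rw [coeff_X_pow, coeff_homogeneousComponent]
    by_cases hd : d.degree = M
    · rw [if_pos hd]
      have hmul : (B⁻¹ * B) es ⟨d, (hE d).2 hd⟩ = (1 : Matrix E E k) es ⟨d, (hE d).2 hd⟩ := by
        rw [Matrix.nonsing_inv_mul _ (IsUnit.mk0 _ hv)]
      rw [Matrix.one_apply] at hmul
      rw [show (if es = (⟨d, (hE d).2 hd⟩ : E) then (1 : k) else 0) = if Finsupp.single s M = d then 1 else 0 from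
        if_congr Subtype.ext_iff rfl rfl] at hmul
      rw [← hmul, Matrix.mul_apply]
      simp [P, coeff_sum, coeff_C_mul, hB]
    · rw [if_neg hd, if_neg]
      rintro rfl
      exact hd (Finsupp.degree_single s M)

end Generic

section Det

variable {R : Type*} [CommRing R]

lemma det_isHomogeneous {σ : Type*} {a : ℕ} (A : Matrix (Fin a) (Fin a) (MvPolynomial σ R)) (d : Fin a → ℕ)
    (h : ∀ p q, (A p q).IsHomogeneous (d p)) : A.det.IsHomogeneous (∑ p, d p) := by
  rw [Matrix.det_apply, ← mem_homogeneousSubmodule]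
  refine Submodule.sum_mem _ fun σ' _ => ?_
  rw [mem_homogeneousSubmodule]
  have h1 : (∏ q, A (σ' q) q).IsHomogeneous (∑ p, d p) := by
    rw [← Equiv.sum_comp σ' d]
    exact IsHomogeneous.prod Finset.univ _ _ fun q _ => h _ _
  exact (mem_homogeneousSubmodule _ _).1 (zsmul_mem ((mem_homogeneousSubmodule _ _).2 h1) _)

/-- A banded matrix. -/
def band {a b : ℕ} (w : ℕ) (x : ℕ → R) (d : Fin b → ℕ) (i : Fin b) (j : Fin a) : R :=
  if (j : ℕ) ≤ i ∧ (i : ℕ) ≤ j + w then x ((i : ℕ) - j) ^ d i else 0

/-- A prime containing the maximal minors of a banded matrix contains all of the band. -/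
theorem band_mem (P : Ideal R) [P.IsPrime] {a b w : ℕ} (hw : a + w ≤ b) (x : ℕ → R) (d : Fin b → ℕ)
    (hd : ∀ i, 1 ≤ d i) (hP : ∀ T : Fin a → Fin b, (Matrix.of fun p q => band w x d (T p) q).det ∈ P) :
    ∀ s, s ≤ w → x s ∈ P := by
  intro s
  induction s using Nat.strong_induction_on with
  | h s ih =>
    intro hs
    let T : Fin a → Fin b := fun p => ⟨p + s, by omega⟩
    let A : Matrix (Fin a) (Fin a) (R ⧸ P) :=
      Matrix.of fun p q => Ideal.Quotient.mk P (band w x d (T p) q)
    have htri : A.BlockTriangular OrderDual.toDual := by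
      intro p q hpq
      have hpq' : p < q := hpq
      simp only [A, Matrix.of_apply, band, T]
      split_ifs with h
      · rw [map_pow, Ideal.Quotient.eq_zero_iff_mem.2 (ih _ (by rw [Fin.lt_def] at hpq'; omega) (by omega)),
          zero_pow]
        exact Nat.one_le_iff_ne_zero.1 (hd _)
      · exact map_zero _
    have hdet : A.det = 0 := by
      rw [show A = (Ideal.Quotient.mk P).mapMatrix (Matrix.of fun p q => band w x d (T p) q) from rfl,
        ← RingHom.map_det]
      exact Ideal.Quotient.eq_zero_iff_mem.2 (hP T)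
    rw [Matrix.det_of_isLowerTriangular _ htri] at hdet
    obtain ⟨p, -, hp⟩ := Finset.prod_eq_zero_iff.1 hdet
    simp only [A, Matrix.of_apply, band, T] at hp
    rw [if_pos ⟨by omega, by omega⟩, Nat.add_sub_cancel_left, Ideal.Quotient.eq_zero_iff_mem] at hp
    exact ‹P.IsPrime›.mem_of_pow_mem _ hp

/-- Powers of the band lie in the ideal of maximal minors. -/
theorem band_pow_mem {a b w : ℕ} (hw : a + w ≤ b) (x : ℕ → R) (d : Fin b → ℕ)
    (hd : ∀ i, 1 ≤ d i) (I : Ideal R) (hI : ∀ T : Fin a → Fin b, (Matrix.of fun p q => band w x d (T p) q).det ∈ I)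
    {s : ℕ} (hs : s ≤ w) : x s ∈ I.radical := by
  rw [Ideal.radical_eq_sInf, Submodule.mem_sInf]
  rintro P ⟨hle, hP⟩
  haveI := hP
  exact band_mem P hw x d hd (fun T => hle (hI T)) s hs

end Det

section Minor

variable {R : Type*} [CommRing R] {β : Type*} {a : ℕ}

/-- The minor on the rows `T`. -/
abbrev minor (M : β → Fin a → R) (T : Fin a → β) : R := (Matrix.of fun p q => M (T p) q).det

lemma minor_smul (M : β → Fin a → R) (T : Fin a → β) (u : Fin a → R) :
    minor M T • u = (Matrix.of fun p q => M (T p) q).adjugate *ᵥ fun p => ∑ q, M (T p) q * u q := by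
  have h : (fun p => ∑ q, M (T p) q * u q) = (Matrix.of fun p q => M (T p) q) *ᵥ u := rfl
  rw [h, Matrix.mulVec_mulVec, Matrix.adjugate_mul, Matrix.smul_mulVec, Matrix.one_mulVec]

lemma eq_zero_of_minor (M : β → Fin a → R) (T : Fin a → β) (hT : IsLeftRegular (minor M T)) {u : Fin a → R}
    (h : ∀ i, ∑ q, M i q * u q = 0) : u = 0 := by
  have h1 := minor_smul M T u
  rw [show (fun p => ∑ q, M (T p) q * u q) = 0 from funext fun p => h _, Matrix.mulVec_zero] at h1
  exact funext fun q => hT (show minor M T * u q = minor M T * 0 by rw [mul_zero]; exact congrFun h1 q)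

/-- If no non-trivial common divisibility passes to the minors, the cokernel is torsion-free. -/
theorem torsionfree (M : β → Fin a → R) [IsDomain R]
    (hdvd : ∀ r c : R, r ≠ 0 → (∀ T : Fin a → β, r ∣ minor M T * c) → r ∣ c)
    {r : R} (hr : r ≠ 0) {x : β → R} {u : Fin a → R} (h : ∀ i, r * x i = ∑ q, M i q * u q) :
    ∃ u' : Fin a → R, ∀ i, x i = ∑ q, M i q * u' q := by
  have hq : ∀ q, r ∣ u q := fun q => hdvd r (u q) hr fun T => by
    have h1 := minor_smul M T u
    rw [show (fun p => ∑ q, M (T p) q * u q) = r • fun p => x (T p) from funext fun p => (h _).symm,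
      Matrix.mulVec_smul] at h1
    exact ⟨_, congrFun h1 q⟩
  choose u' hu' using hq
  refine ⟨u', fun i => mul_left_cancel₀ hr ?_⟩
  rw [h, Finset.mul_sum]
  exact Finset.sum_congr rfl fun q _ => by rw [hu' q]; ring

/-- Unit ideal of maximal minors gives surjectivity. -/
theorem surjective_of_span (M : Fin a → β → R) [Fintype β]
    (h : Ideal.span (Set.range fun T : Fin a → β => (Matrix.of fun p q => M p (T q)).det) = ⊤) (y : Fin a → R) :
    ∃ u : β → R, ∀ p, ∑ i, M p i * u i = y p := by
  classical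
  let L : (β → R) →ₗ[R] (Fin a → R) := Matrix.mulVecLin (Matrix.of M)
  suffices hy : y ∈ LinearMap.range L by
    obtain ⟨u, hu⟩ := hy
    exact ⟨u, fun p => congrFun hu p⟩
  have hle : Ideal.span (Set.range fun T : Fin a → β => (Matrix.of fun p q => M p (T q)).det) ≤
      Submodule.comap (LinearMap.toSpanSingleton R (Fin a → R) y) (LinearMap.range L) := by
    refine Ideal.span_le.2 ?_
    rintro _ ⟨T, rfl⟩
    set A := (Matrix.of fun p q => M p (T q)) with hA
    let u := A.adjugate *ᵥ y
    refine ⟨∑ q, u q • Pi.single (T q) (1 : R), ?_⟩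
    rw [map_sum, LinearMap.toSpanSingleton_apply]
    have h2 : A *ᵥ u = A.det • y := by
      rw [Matrix.mulVec_mulVec, Matrix.mul_adjugate, Matrix.smul_mulVec, Matrix.one_mulVec]
    rw [← h2]
    funext p
    simp [L, Matrix.mulVec, dotProduct, hA, Pi.single_apply, mul_comm]
  have h1 := hle (h ▸ Submodule.mem_top (x := (1 : R)))
  simpa using h1

end Minor

section NoDiv

variable {k : Type u} [Field k]

/-- The grading parameter. -/
def tw : MvPolynomial (Fin 3) k →+* Polynomial (MvPolynomial (Fin 3) k) :=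
  MvPolynomial.eval₂Hom (Polynomial.C.comp MvPolynomial.C) fun i => Polynomial.C (MvPolynomial.X i) * Polynomial.X

lemma tw_homogeneous {G : MvPolynomial (Fin 3) k} {D : ℕ} (hG : G.IsHomogeneous D) :
    tw G = Polynomial.C G * Polynomial.X ^ D := by
  conv_lhs => rw [G.as_sum]
  conv_rhs => rw [G.as_sum]
  rw [map_sum, map_sum, Finset.sum_mul]
  refine Finset.sum_congr rfl fun d hd => ?_
  have hD : ∑ i ∈ d.support, d i = D := by
    have := hG (mem_support_iff.1 hd)
    rwa [Finsupp.weight_apply, Finsupp.sum, show (∑ i ∈ d.support, d i • (1 : Fin 3 → ℕ) i) = ∑ i ∈ d.support, d i from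
      Finset.sum_congr rfl fun i _ => by simp] at this
  rw [tw, eval₂Hom_monomial, monomial_eq, Finsupp.prod, Finsupp.prod, map_mul, map_prod, RingHom.comp_apply]
  rw [mul_assoc (Polynomial.C (MvPolynomial.C _))]
  congr 1
  simp only [map_pow, mul_pow, Finset.prod_mul_distrib, Finset.prod_pow_eq_pow_sum, hD]

/-- No prime divides all members of a homogeneous family which cuts finitely many points off a line. -/
theorem not_forall_dvd {τ : Type*} (G : τ → MvPolynomial (Fin 3) k) (hG : ∀ t, ∃ D, (G t).IsHomogeneous D) (N : ℕ)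
    (h : ∀ s, (X s : MvPolynomial (Fin 3) k) ^ N ∈
      Ideal.span (insert (X 2 : MvPolynomial (Fin 3) k) (Set.range G)))
    {π : MvPolynomial (Fin 3) k} (hπ : Prime π) : ∃ t, ¬ π ∣ G t := by
  classical
  by_contra hne
  push Not at hne
  let ρ : MvPolynomial (Fin 3) k →+* MvPolynomial (Fin 3) k :=
    MvPolynomial.eval₂Hom MvPolynomial.C fun i => if i = 2 then 0 else MvPolynomial.X i
  have hρ : ∀ s : Fin 3, s ≠ 2 → ρ π ∣ (X s : MvPolynomial (Fin 3) k) ^ N := fun s hs => by
    have hle : Ideal.span (insert (X 2 : MvPolynomial (Fin 3) k) (Set.range G)) ≤ (Ideal.span {ρ π}).comap ρ := by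
      rw [Ideal.span_le, Set.insert_subset_iff]
      refine ⟨?_, ?_⟩
      · simp [ρ]
      · rintro _ ⟨t, rfl⟩
        exact Ideal.mem_span_singleton.2 (map_dvd ρ (hne t))
    have := Ideal.mem_span_singleton.1 (hle (h s))
    simpa [ρ, hs] using this
  have hunit : IsUnit (ρ π) := by
    obtain ⟨i, -, hi⟩ := (dvd_prime_pow MvPolynomial.X_prime N).1 (hρ 0 (by decide))
    rcases Nat.eq_zero_or_pos i with rfl | hi'
    · rw [pow_zero] at hi
      exact hi.symm.isUnit isUnit_one
    · exfalso
      have h01 : (X 0 : MvPolynomial (Fin 3) k) ∣ X 1 :=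
        MvPolynomial.X_prime.dvd_of_dvd_pow (((dvd_pow_self _ hi'.ne').trans hi.symm.dvd).trans (hρ 1 (by decide)))
      simp [X_dvd_X] at h01
  obtain ⟨t, ht⟩ : ∃ t, G t ≠ 0 := by
    by_contra h0
    push Not at h0
    have hle : Ideal.span (insert (X 2 : MvPolynomial (Fin 3) k) (Set.range G)) ≤ RingHom.ker ρ := by
      rw [Ideal.span_le, Set.insert_subset_iff]
      refine ⟨by simp [RingHom.mem_ker, ρ], ?_⟩
      rintro _ ⟨t, rfl⟩
      simp [RingHom.mem_ker, h0 t]
    have := hle (h 0)
    simp [RingHom.mem_ker, ρ, X_ne_zero] at this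
  obtain ⟨c, hc⟩ := hne t
  obtain ⟨D, hD⟩ := hG t
  have he : tw π * tw c = Polynomial.C (G t) * Polynomial.X ^ D := by
    rw [← map_mul, ← hc, tw_homogeneous hD]
  have hne0 : Polynomial.C (G t) * Polynomial.X ^ D ≠ 0 :=
    mul_ne_zero (Polynomial.C_ne_zero.2 ht) (pow_ne_zero _ Polynomial.X_ne_zero)
  have hπ0 : tw π ≠ 0 := left_ne_zero_of_mul (he ▸ hne0)
  have hc0 : tw c ≠ 0 := right_ne_zero_of_mul (he ▸ hne0)
  have h1 := congrArg Polynomial.natDegree he
  have h2 := congrArg Polynomial.natTrailingDegree he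
  rw [Polynomial.natDegree_mul hπ0 hc0, Polynomial.natDegree_C_mul_X_pow _ _ ht] at h1
  rw [Polynomial.natTrailingDegree_mul hπ0 hc0, Polynomial.natTrailingDegree_mul_X_pow (Polynomial.C_ne_zero.2 ht),
    Polynomial.natTrailingDegree_C, zero_add] at h2
  have h3 := Polynomial.natTrailingDegree_le_natDegree (tw π)
  have h4 := Polynomial.natTrailingDegree_le_natDegree (tw c)
  set e := (tw π).natDegree with he'
  have hmono : tw π = Polynomial.C ((tw π).coeff e) * Polynomial.X ^ e := by
    ext n : 1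
    rw [Polynomial.coeff_C_mul_X_pow]
    rcases lt_trichotomy n e with hn | rfl | hn
    · rw [if_neg hn.ne, Polynomial.coeff_eq_zero_of_lt_natTrailingDegree (by omega)]
    · rw [if_pos rfl]
    · rw [if_neg hn.ne', Polynomial.coeff_eq_zero_of_natDegree_lt hn]
  have hone : (Polynomial.evalRingHom (1 : MvPolynomial (Fin 3) k)).comp tw = RingHom.id _ :=
    MvPolynomial.ringHom_ext (fun r => by simp [tw]) fun i => by simp [tw]
  have hzero : (Polynomial.evalRingHom (0 : MvPolynomial (Fin 3) k)).comp tw = MvPolynomial.C.comp constantCoeff :=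
    MvPolynomial.ringHom_ext (fun r => by simp [tw]) fun i => by simp [tw]
  have hcoeff : (tw π).coeff e = π := by
    have := RingHom.congr_fun hone π
    rw [RingHom.comp_apply, hmono] at this
    simpa using this
  have hcz := RingHom.congr_fun hzero π
  rw [RingHom.comp_apply, hmono, hcoeff] at hcz
  have hcu : constantCoeff π ≠ 0 := fun h0 => by
    have hcc : (constantCoeff : MvPolynomial (Fin 3) k →+* k).comp ρ = constantCoeff :=
      MvPolynomial.ringHom_ext (fun r => by simp [ρ]) fun i => by simp [ρ]; split_ifs <;> simp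
    have := hunit.map (constantCoeff : MvPolynomial (Fin 3) k →+* k)
    rw [← RingHom.comp_apply, hcc, h0] at this
    exact not_isUnit_zero this
  rcases Nat.eq_zero_or_pos e with he0 | he0
  · rw [he0] at hcz
    simp only [Polynomial.coe_evalRingHom, pow_zero, mul_one, Polynomial.eval_C, RingHom.comp_apply] at hcz
    exact hπ.not_unit (hcz ▸ (IsUnit.mk0 _ hcu).map MvPolynomial.C)
  · simp only [Polynomial.coe_evalRingHom, Polynomial.eval_mul, Polynomial.eval_pow, Polynomial.eval_X,
      zero_pow he0.ne', mul_zero, RingHom.comp_apply] at hcz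
    exact hcu (C_eq_zero.1 hcz.symm)

/-- Divisibility passes through a family without common prime. -/
theorem dvd_of_forall_dvd {S : Type*} [CommRing S] [IsDomain S] [UniqueFactorizationMonoid S] {τ : Type*}
    (G : τ → S) (hG : ∀ π : S, Prime π → ∃ t, ¬ π ∣ G t) {q : S} (hq : q ≠ 0) :
    ∀ c : S, (∀ t, q ∣ c * G t) → q ∣ c := by
  induction q using UniqueFactorizationMonoid.induction_on_prime with
  | h₁ => exact absurd rfl hq
  | h₂ x hx => exact fun c _ => hx.dvd
  | h₃ a π ha hπ ih =>
    intro c h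
    obtain ⟨t, ht⟩ := hG π hπ
    obtain ⟨c', rfl⟩ := (hπ.dvd_or_dvd ((dvd_mul_right π a).trans (h t))).resolve_right ht
    refine mul_dvd_mul_left π (ih ha c' fun t => ?_)
    refine (mul_dvd_mul_iff_left hπ.ne_zero).1 ?_
    rw [← mul_assoc]
    exact h t

end NoDiv

end Groth.Agent.GaetaGen
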