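import Groth.Agent.GaetaGen.Main
import Groth.Agent.FEtRank.PushRank
import Groth.Agent.FittLib.Sheaf

/-!
Degeneracy of block triangular maps.
-/

set_option autoImplicit false
set_option linter.unusedSectionVars false
set_option linter.style.haveILetI false
set_option backward.isDefEq.respectTransparency false
set_option maxHeartbeats 1000000

universe u

open CategoryTheory CategoryTheory.Limits AlgebraicGeometry

attribute [local instance] CategoryTheory.Abelian.hasFiniteBiproducts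

noncomputable section

namespace Groth.Agent.GaetaGen.Block

lemma det_eq_zero_of_block {R : Type*} [CommRing R] {a a₁ a₂ b₁ b₂ : ℕ} (hlt : b₂ < a₂) (hsum : a = a₁ + a₂)
    (col : Fin a₁ ⊕ Fin a₂ → Fin b₁ ⊕ Fin b₂ → R) (hcol : ∀ q p, col (Sum.inr q) (Sum.inl p) = 0)
    (t : Fin a → Fin a₁ ⊕ Fin a₂) (e : Fin a → Fin b₁ ⊕ Fin b₂) : FittLib.minor (fun j => col (t j)) e = 0 := by
  classical
  by_cases he : Function.Injective e
  swap
  · exact FittLib.minor_eq_zero_of_not_injective _ _ he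
  rw [FittLib.minor]
  by_cases ht : Function.Injective t
  swap
  · simp only [Function.Injective, not_forall] at ht
    obtain ⟨p, q, hpq, hne⟩ := ht
    exact Matrix.det_zero_of_column_eq hne fun i => by simp [hpq]
  have hbij : Function.Bijective t := by
    rw [Fintype.bijective_iff_injective_and_card]
    exact ⟨ht, by simp [hsum]⟩
  rw [Matrix.det_apply]
  refine Finset.sum_eq_zero fun σ _ => ?_
  suffices h : ∃ j, col (t j) (e (σ j)) = 0 by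
    obtain ⟨j, hj⟩ := h
    rw [Finset.prod_eq_zero (Finset.mem_univ j) (by simpa using hj), smul_zero]
  by_contra h
  push Not at h
  choose inv hinv using fun q : Fin a₂ => hbij.2 (Sum.inr q)
  have hrow : ∀ q, ∃ p, e (σ (inv q)) = Sum.inr p := fun q => by
    rcases hp : e (σ (inv q)) with p | p
    · exact absurd (by rw [hinv q, hp, hcol]) (h (inv q))
    · exact ⟨p, rfl⟩
  choose f hf using hrow
  have hinj : Function.Injective f := fun q q' hqq => by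
    have h1 : inv q = inv q' := σ.injective (he (by rw [hf, hf, hqq]))
    exact Sum.inr_injective (by rw [← hinv q, ← hinv q', h1])
  have := Fintype.card_le_of_injective f hinj
  simp at this
  omega

variable {Y : Scheme.{u}}

lemma exists_basis {n : ℕ} {M : Y.Modules} {W : Y.Opens} (φ : M.restrict W.ι ≅ FlatMod.freeMod (↑W) n)
    {D : Y.Opens} (hD : IsAffineOpen D) (hDW : D ≤ W) : Nonempty (Module.Basis (Fin n) Γ(Y, D) Γ(M, D)) := by
  obtain ⟨l, -⟩ := FEtRank.finrank_sections_of_le φ hD hDW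
  exact ⟨(Module.Basis.ofRepr l).reindex Equiv.ulift⟩

theorem main [IsLocallyNoetherian Y] (A₁ A₂ B₁ B₂ : Y.Modules) (a₁ a₂ b₁ b₂ : ℕ)
    (hA₁ : FlatMod.IsFinLocFreeOfRank a₁ A₁) (hA₂ : FlatMod.IsFinLocFreeOfRank a₂ A₂)
    (hB₁ : FlatMod.IsFinLocFreeOfRank b₁ B₁) (hB₂ : FlatMod.IsFinLocFreeOfRank b₂ B₂)
    (hcA : Coh.IsCoh (A₁ ⊞ A₂)) (hcB : Coh.IsCoh (B₁ ⊞ B₂))
    (hab : a₁ + a₂ ≤ b₁ + b₂) (hlt : b₂ < a₂) (φ : (A₁ ⊞ A₂) ⟶ (B₁ ⊞ B₂))
    (h₂₁ : (biprod.inr : A₂ ⟶ A₁ ⊞ A₂) ≫ φ ≫ biprod.fst = 0) :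
    (((Fitt.sheafIdeal (cokernel φ) (b₁ + b₂ - (a₁ + a₂))).support : TopologicalSpace.Closeds Y) : Set Y) =
      Set.univ := by
  classical
  refine Set.eq_univ_of_forall fun x => ?_
  obtain ⟨U₁, hx₁, ⟨e₁⟩⟩ := hA₁ x
  obtain ⟨U₂, hx₂, ⟨e₂⟩⟩ := hA₂ x
  obtain ⟨V₁, hy₁, ⟨f₁⟩⟩ := hB₁ x
  obtain ⟨V₂, hy₂, ⟨f₂⟩⟩ := hB₂ x
  obtain ⟨D, hD, hxD, hDle⟩ := exists_isAffineOpen_mem_and_subset
    (show x ∈ U₁ ⊓ U₂ ⊓ (V₁ ⊓ V₂) from ⟨⟨hx₁, hx₂⟩, hy₁, hy₂⟩)
  obtain ⟨u₁⟩ := exists_basis e₁ hD (hDle.trans (inf_le_left.trans inf_le_left))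
  obtain ⟨u₂⟩ := exists_basis e₂ hD (hDle.trans (inf_le_left.trans inf_le_right))
  obtain ⟨w₁⟩ := exists_basis f₁ hD (hDle.trans (inf_le_right.trans inf_le_left))
  obtain ⟨w₂⟩ := exists_basis f₂ hD (hDle.trans (inf_le_right.trans inf_le_right))
  have hQ : Coh.IsCoh (cokernel φ) := QC.isCoh_cokernel hcA.1 hcB φ
  refine (FittLib.mem_support_iff _ ⟨D, hD⟩ hxD).2 ?_
  rw [FittLib.sheafIdeal_ideal hQ.1 hQ.2]
  refine le_of_eq_of_le ?_ bot_le
  let g : Fin b₁ ⊕ Fin b₂ → Γ(B₁ ⊞ B₂, D) :=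
    Sum.elim (fun i => (biprod.inl : B₁ ⟶ B₁ ⊞ B₂).app D (w₁ i)) fun i => (biprod.inr : B₂ ⟶ B₁ ⊞ B₂).app D (w₂ i)
  let co : Γ(B₁ ⊞ B₂, D) →ₗ[Γ(Y, D)] (Fin b₁ ⊕ Fin b₂ → Γ(Y, D)) :=
    LinearMap.pi fun i => Sum.elim
      (fun i => (Finsupp.lapply i).comp (w₁.repr.toLinearMap.comp (QC.appₗ (biprod.fst : B₁ ⊞ B₂ ⟶ B₁) D)))
      (fun i => (Finsupp.lapply i).comp (w₂.repr.toLinearMap.comp (QC.appₗ (biprod.snd : B₁ ⊞ B₂ ⟶ B₂) D))) i
  have htot : ∀ s, ∑ i, co s i • g i = s := fun s => by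
    conv_rhs => rw [show s = DetReg.evalApp s (𝟙 (B₁ ⊞ B₂)) from rfl, ← biprod.total, map_add]
    rw [Fintype.sum_sum_type]
    refine congrArg₂ (· + ·) ?_ ?_
    · simp only [g, Sum.elim_inl, ← Scheme.Modules.Hom.app_smul, ← map_sum]
      refine congrArg ((biprod.inl : B₁ ⟶ B₁ ⊞ B₂).app D) ?_
      exact w₁.sum_repr _
    · simp only [g, Sum.elim_inr, ← Scheme.Modules.Hom.app_smul, ← map_sum]
      refine congrArg ((biprod.inr : B₂ ⟶ B₁ ⊞ B₂).app D) ?_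
      exact w₂.sum_repr _
  have hg : ∀ c, co (∑ i, c i • g i) = c := by
    intro c
    have hself : ∀ i, co (g i) = Pi.single i 1 := by
      rintro (i | i) <;> funext j <;> rcases j with j | j <;>
        simp [co, g, ← ConcreteCategory.comp_apply, ← Scheme.Modules.Hom.comp_app, Pi.single_apply, Finsupp.single_apply, eq_comm]
    rw [map_sum]
    simp only [map_smul, hself]
    exact (pi_eq_sum_univ' c).symm
  let x' : Fin b₁ ⊕ Fin b₂ → Γ(cokernel φ, D) := fun i => (cokernel.π φ).app D (g i)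
  have hspan : Submodule.span Γ(Y, D) (Set.range x') = ⊤ := eq_top_iff.2 fun q _ => by
    obtain ⟨s, rfl⟩ := π_surjective (φ := φ) hcA.1 hcB.1 hD q
    rw [← htot s, map_sum]
    refine Submodule.sum_mem _ fun i _ => ?_
    rw [Scheme.Modules.Hom.app_smul]
    exact Submodule.smul_mem _ _ (Submodule.subset_span ⟨i, rfl⟩)
  rw [FittLib.ideal_eq_minors x' hspan]
  refine eq_bot_iff.2 ?_
  let gA : Fin a₁ ⊕ Fin a₂ → Γ(A₁ ⊞ A₂, D) :=
    Sum.elim (fun i => (biprod.inl : A₁ ⟶ A₁ ⊞ A₂).app D (u₁ i)) fun i => (biprod.inr : A₂ ⟶ A₁ ⊞ A₂).app D (u₂ i)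
  let col : Fin a₁ ⊕ Fin a₂ → Fin b₁ ⊕ Fin b₂ → Γ(Y, D) := fun j => co (φ.app D (gA j))
  have hcol : ∀ q p, col (Sum.inr q) (Sum.inl p) = 0 := fun q p => by
    have h0 : (biprod.fst : B₁ ⊞ B₂ ⟶ B₁).app D (φ.app D ((biprod.inr : A₂ ⟶ A₁ ⊞ A₂).app D (u₂ q))) = 0 :=
      congrArg (fun f : A₂ ⟶ B₁ => f.app D (u₂ q)) h₂₁
    show w₁.repr ((biprod.fst : B₁ ⊞ B₂ ⟶ B₁).app D (φ.app D ((biprod.inr : A₂ ⟶ A₁ ⊞ A₂).app D (u₂ q)))) p = 0
    rw [h0, map_zero]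
    rfl
  refine FittLib.minors_le_of_span (Set.range col) ?_ ?_
  · intro z hz
    rw [FittLib.mem_rel] at hz
    have hz' : (cokernel.π φ).app D (∑ i, z i • g i) = 0 := by
      rw [map_sum, ← hz]
      exact Finset.sum_congr rfl fun i _ => Scheme.Modules.Hom.app_smul _ _ _
    obtain ⟨s, hs⟩ := (π_app_eq_zero_iff hcA.1 hcB.1 hD _).1 hz'
    rw [← hg z, ← hs]
    have hsA : s ∈ Submodule.span Γ(Y, D) (Set.range gA) := by
      rw [show s = DetReg.evalApp s (𝟙 (A₁ ⊞ A₂)) from rfl, ← biprod.total, map_add]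
      refine add_mem ?_ ?_
      · show (biprod.inl : A₁ ⟶ A₁ ⊞ A₂).app D ((biprod.fst : A₁ ⊞ A₂ ⟶ A₁).app D s) ∈ _
        rw [← u₁.sum_repr ((biprod.fst : A₁ ⊞ A₂ ⟶ A₁).app D s), map_sum]
        refine Submodule.sum_mem _ fun i _ => ?_
        rw [Scheme.Modules.Hom.app_smul]
        exact Submodule.smul_mem _ _ (Submodule.subset_span ⟨Sum.inl i, rfl⟩)
      · show (biprod.inr : A₂ ⟶ A₁ ⊞ A₂).app D ((biprod.snd : A₁ ⊞ A₂ ⟶ A₂).app D s) ∈ _
        rw [← u₂.sum_repr ((biprod.snd : A₁ ⊞ A₂ ⟶ A₂).app D s), map_sum]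
        refine Submodule.sum_mem _ fun i _ => ?_
        rw [Scheme.Modules.Hom.app_smul]
        exact Submodule.smul_mem _ _ (Submodule.subset_span ⟨Sum.inr i, rfl⟩)
    have := Submodule.mem_map_of_mem (f := co.comp (QC.appₗ φ D)) hsA
    rw [Submodule.map_span, ← Set.range_comp] at this
    exact this
  · intro z e hz
    choose t ht using hz
    obtain rfl : z = fun j => col (t j) := funext fun j => (ht j).symm
    rw [det_eq_zero_of_block hlt (by simp; omega) col hcol t e]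
    exact zero_mem _

end Groth.Agent.GaetaGen.Block
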