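import Groth.Agent.GaetaRes.Basic
import Groth.Agent.GrT.GammaFinite
import Groth.Agent.TwistPairing.MulMap
import Groth.Agent.ProjMor.Base
import Groth.Agent.GaetaGen.Algebra

/-!
Morphisms between line bundles on projective space as forms.
-/

set_option autoImplicit false
set_option linter.unusedSectionVars false
set_option linter.style.haveILetI false
set_option backward.isDefEq.respectTransparency false
set_option maxHeartbeats 1000000

universe u

open CategoryTheory CategoryTheory.Limits AlgebraicGeometry MvPolynomial Opposite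
open Groth.Agent.QC (res resO app_res res_self resO_self appₗ)
open Groth.Agent.RegPow (S D dh gen isGen_gen X_mem exists_D)
open Groth.Agent.GaetaRes (Tw)

noncomputable section

namespace Groth.Agent.GaetaGen

variable {k : Type u} [Field k] {r : ℕ}

local notation "𝒜" => CohB1.polyGrading r k

lemma D_ne_bot (i : Fin (r + 1)) : ∃ y, y ∈ D (k := k) i := by
  obtain ⟨e, -⟩ := Groth.Agent.PicPn.exists_chart (k := k) i
  by_contra h
  push Not at h
  have h01 : (0 : Γ(CohB1.ProjSpace r k, D (k := k) i)) = 1 :=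
    GrT.pO_ext 𝒜 fun y => absurd y.2 (h y.1)
  exact zero_ne_one ((map_zero e).symm.trans ((congrArg e h01).trans (map_one e)))

lemma dh_injective (i : Fin (r + 1)) {d : ℕ} {z w : S k r} (hz : z ∈ CohB1.polyGrading r k d)
    (hw : w ∈ CohB1.polyGrading r k d) (h : dh i z = dh i w) : z = w := by
  obtain ⟨y, hy⟩ := D_ne_bot (k := k) i
  have hX := GrT.not_mem_pow 𝒜 (GrT.not_mem_of_mem 𝒜 (le_refl (D (k := k) i)) ⟨y, hy⟩) d
  have h1 := (GrT.pO_deh 𝒜 (X_mem i) hz le_rfl ⟨y, hy⟩ hX).symm.trans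
    ((congrArg (fun c => GrT.pO 𝒜 (resO _ le_rfl c) (⟨y, hy⟩ : D (k := k) i)) h).trans
      (GrT.pO_deh 𝒜 (X_mem i) hw le_rfl ⟨y, hy⟩ hX))
  rw [Localization.mk_eq_mk_iff, Localization.r_iff_exists] at h1
  obtain ⟨c, hc⟩ := h1
  refine mul_left_cancel₀ (pow_ne_zero d (X_ne_zero (R := k) i))
    (mul_left_cancel₀ (fun h0 : (c : S k r) = 0 => c.2 (h0 ▸ zero_mem _)) ?_)
  exact hc

/-- Morphisms out of a line bundle are determined by the chart generators. -/
lemma hom_ext_gen (a : ℤ) {F : (CohB1.ProjSpace r k).Modules} {f g : Tw k r a ⟶ F}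
    (h : ∀ i, f.app (D i) (gen (k := k) a i) = g.app (D i) (gen (k := k) a i)) : f = g := by
  refine Scheme.Modules.hom_ext _ _ fun U => ConcreteCategory.hom_ext _ _ fun s => ?_
  refine QC.section_eq_of_locally fun x hx => ?_
  obtain ⟨i, hi⟩ := exists_D (k := k) x
  refine ⟨U ⊓ D i, inf_le_left, ⟨hx, hi⟩, ?_⟩
  obtain ⟨c, hc⟩ := (isGen_gen (k := k) a i (U ⊓ D i) inf_le_right).2 (res _ inf_le_left s)
  rw [app_res, app_res, ← hc]
  change f.app _ (c • res _ _ _) = g.app _ (c • res _ _ _)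
  rw [Scheme.Modules.Hom.app_smul, Scheme.Modules.Hom.app_smul, ← app_res, ← app_res, h]

lemma mul_gen {a b : ℤ} {d : ℕ} {z : S k r} (hz : z ∈ CohB1.polyGrading r k d) (h : a + d = b) (i : Fin (r + 1)) :
    (TwistPairing.mulMap hz h).app (D i) (gen (k := k) a i) = dh i z • gen (k := k) b i := by
  refine GrT.pt_ext 𝒜 𝒜 fun y => ?_
  have hy := GrT.not_mem_of_mem 𝒜 (le_refl (D (k := k) i)) y
  refine (TwistPairing.pt_mulTilde 𝒜 hz h _ y (GrT.not_mem_pow 𝒜 hy _) rfl).trans ?_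
  rw [← resO_self le_rfl (dh i z)]
  have hp : GrT.pO 𝒜 (resO (CohB1.ProjSpace r k) le_rfl (dh i z)) y = Localization.mk z ⟨X i ^ d, GrT.not_mem_pow 𝒜 hy d⟩ :=
    GrT.pO_deh 𝒜 (X_mem i) hz le_rfl y _
  refine Eq.trans ?_ (GrT.pt_smul 𝒜 _ _ y).symm
  change (Localization.mk (z * X i ^ a.toNat) ⟨X i ^ (-a).toNat, _⟩ : Twist.Loc 𝒜 y.1) =
    GrT.pO 𝒜 (resO (CohB1.ProjSpace r k) le_rfl (dh i z)) y * Localization.mk (X i ^ b.toNat) ⟨X i ^ (-b).toNat, _⟩
  rw [hp, Localization.mk_mul, Localization.mk_eq_mk_iff, Localization.r_iff_exists]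
  refine ⟨1, ?_⟩
  simp only [Submonoid.coe_mul, OneMemClass.coe_one, one_mul]
  have : (X i : S k r) ^ d * X i ^ (-b).toNat * X i ^ a.toNat = X i ^ (-a).toNat * X i ^ b.toNat := by
    rw [← pow_add, ← pow_add, ← pow_add]
    congr 1
    omega
  linear_combination z * this

lemma mulMap_add {a b : ℤ} {d : ℕ} {z w : S k r} (hz : z ∈ CohB1.polyGrading r k d)
    (hw : w ∈ CohB1.polyGrading r k d) (h : a + d = b) :
    TwistPairing.mulMap (add_mem hz hw) h = TwistPairing.mulMap hz h + TwistPairing.mulMap hw h :=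
  hom_ext_gen a fun i => by
    rw [mul_gen, Scheme.Modules.Hom.add_app, map_add, add_smul]
    exact (congrArg₂ (· + ·) (mul_gen hz h i) (mul_gen hw h i)).symm

lemma mulMap_smul {a b : ℤ} {d : ℕ} (c : k) {z : S k r} (hz : z ∈ CohB1.polyGrading r k d) (h : a + d = b) :
    TwistPairing.mulMap ((CohB1.polyGrading r k d).smul_mem c hz) h = c • TwistPairing.mulMap hz h :=
  hom_ext_gen a fun i => by
    rw [mul_gen, KLin.smul_app_apply, mul_gen, smul_smul]
    congr 1
    rw [MvPolynomial.smul_eq_C_mul, map_mul]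
    congr 1
    exact (ProjMor.res_toGlobal_base 𝒜 (X_mem i) c).symm

/-- Multiplication by forms, linearly. -/
def mulLin (r : ℕ) {a b : ℤ} {d : ℕ} (h : a + d = b) : ↥(CohB1.polyGrading r k d) →ₗ[k] (Tw k r a ⟶ Tw k r b) where
  toFun z := TwistPairing.mulMap z.2 h
  map_add' z w := mulMap_add z.2 w.2 h
  map_smul' c z := mulMap_smul c z.2 h

theorem mulLin_bijective {a b : ℤ} {d : ℕ} (h : a + d = b) : Function.Bijective (mulLin (k := k) r h) := by
  have hinj : Function.Injective (mulLin (k := k) r h) := fun z w hzw => Subtype.ext <| by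
    have i : Fin (r + 1) := 0
    refine dh_injective i z.2 w.2 ((isGen_gen (k := k) b i (D i) le_rfl).1 ?_)
    simp only [res_self]
    rw [← mul_gen z.2 h, ← mul_gen w.2 h]
    exact congrArg (fun f : Tw k r a ⟶ Tw k r b => f.app (D i) (gen (k := k) a i)) hzw
  obtain ⟨e⟩ := GaetaRes.nonempty_hom_equiv (k := k) a (Tw k r b)
  obtain ⟨i⟩ := RegCx.twist_twist (k := k) (n := r) b (-a) ((d : ℕ) : ℤ) (by omega)
  obtain ⟨z⟩ := ProjCech.zero_equiv (R := k) r d
  let T := (e.trans (CohFinite.hhEquiv k i 0)).trans z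
  haveI : FiniteDimensional k (Tw k r a ⟶ Tw k r b) := GaetaRes.finite_hom a (CohFinite.isCoh_twist r k b)
  have hTinj : Function.Injective (T.toLinearMap.comp (mulLin (k := k) r h)) := T.injective.comp hinj
  haveI : FiniteDimensional k ↥(MvPolynomial.homogeneousSubmodule (Fin (r + 1)) k d) := Module.Finite.equiv T
  have hs := (LinearMap.injective_iff_surjective (f := T.toLinearMap.comp (mulLin (k := k) r h))).1 hTinj
  exact ⟨hinj, fun y => by
    obtain ⟨x, hx⟩ := hs (T y)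
    exact ⟨x, T.injective hx⟩⟩

/-- The form of a morphism of line bundles. -/
def formEquiv (r : ℕ) {a b : ℤ} {d : ℕ} (h : a + d = b) :
    (Tw k r a ⟶ Tw k r b) ≃ₗ[k] ↥(CohB1.polyGrading r k d) :=
  (LinearEquiv.ofBijective (mulLin (k := k) r h) (mulLin_bijective h)).symm

lemma app_gen {a b : ℤ} {d : ℕ} (h : a + d = b) (f : Tw k r a ⟶ Tw k r b) (i : Fin (r + 1)) :
    f.app (D i) (gen (k := k) a i) = dh i (formEquiv r h f : S k r) • gen (k := k) b i := by
  conv_lhs => rw [← (formEquiv r h).symm_apply_apply f]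
  exact mul_gen (formEquiv r h f).2 h i

lemma app_gen_res {a b : ℤ} {d : ℕ} (h : a + d = b) (f : Tw k r a ⟶ Tw k r b) (i : Fin (r + 1))
    {V : (CohB1.ProjSpace r k).Opens} (hV : V ≤ D i) :
    f.app V (res _ hV (gen (k := k) a i)) =
      resO _ hV (dh i (formEquiv r h f : S k r)) • res _ hV (gen (k := k) b i) := by
  rw [← app_res, app_gen h, QC.res_smul]

/-- Divisibility by forms passes to the charts. -/
theorem chart_dvd {τ : Type*} [Finite τ] (G : τ → S k r) (hG : ∀ t, ∃ e, G t ∈ CohB1.polyGrading r k e)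
    (hπ : ∀ π : S k r, Prime π → ∃ t, ¬ π ∣ G t) (i : Fin (r + 1)) (x c : Γ(CohB1.ProjSpace r k, D (k := k) i))
    (hx : x ≠ 0) (h : ∀ t, x ∣ dh i (G t) * c) : x ∣ c := by
  obtain ⟨e, q, hq, -, rfl⟩ := GrT.exists_away 𝒜 (X_mem i) one_pos x
  obtain ⟨e', p, hp, -, rfl⟩ := GrT.exists_away 𝒜 (X_mem i) one_pos c
  rw [smul_eq_mul, mul_one] at hq hp
  have dq : dh i q = GrT.away 𝒜 (X_mem i) e (GrT.mem_smul_one 𝒜 hq) := GrT.deh_of_mem 𝒜 (X_mem i) hq
  have dp : dh i p = GrT.away 𝒜 (X_mem i) e' (GrT.mem_smul_one 𝒜 hp) := GrT.deh_of_mem 𝒜 (X_mem i) hp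
  rw [← dq] at hx h ⊢
  rw [← dp] at h ⊢
  have hq0 : q ≠ 0 := fun h0 => hx (by rw [h0, map_zero])
  have hpad : ∀ t, ∃ β, q ∣ p * X i ^ β * G t := fun t => by
    obtain ⟨w, hw⟩ := h t
    obtain ⟨e'', f, hf, -, rfl⟩ := GrT.exists_away 𝒜 (X_mem i) one_pos w
    rw [smul_eq_mul, mul_one] at hf
    rw [← (GrT.deh_of_mem 𝒜 (X_mem i) hf : dh i f = GrT.away 𝒜 (X_mem i) e'' (GrT.mem_smul_one 𝒜 hf))] at hw
    obtain ⟨g, hg⟩ := hG t
    refine ⟨e + e'', ⟨f * X i ^ (g + e'), ?_⟩⟩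
    have h1 : p * X i ^ (e + e'') * G t ∈ CohB1.polyGrading r k (e + e'' + (g + e')) := by
      rw [show e + e'' + (g + e') = e' + (e + e'') + g by omega]
      exact SetLike.mul_mem_graded (SetLike.mul_mem_graded hp (GrT.pow_mem_one 𝒜 (X_mem i) _)) hg
    have h2 : q * (f * X i ^ (g + e')) ∈ CohB1.polyGrading r k (e + e'' + (g + e')) := by
      rw [show e + e'' + (g + e') = e + (e'' + (g + e')) by omega]
      exact SetLike.mul_mem_graded hq (SetLike.mul_mem_graded hf (GrT.pow_mem_one 𝒜 (X_mem i) _))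
    refine dh_injective i h1 h2 ?_
    simp only [map_mul, map_pow, show dh (k := k) i (X i) = 1 from GrT.deh_self 𝒜 (X_mem i), one_pow, mul_one]
    linear_combination hw
  choose β hβ using hpad
  cases nonempty_fintype τ
  have hdvd : q ∣ p * X i ^ (∑ t, β t) := dvd_of_forall_dvd G hπ hq0 _ fun t =>
    (hβ t).trans (mul_dvd_mul_right (mul_dvd_mul_left _ (pow_dvd_pow _
      (Finset.single_le_sum (fun t _ => Nat.zero_le (β t)) (Finset.mem_univ t)))) _)
  simpa [show dh (k := k) i (X i) = 1 from GrT.deh_self 𝒜 (X_mem i)] using map_dvd (dh (k := k) i) hdvd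

end Groth.Agent.GaetaGen
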