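import Groth.Agent.DetReg.Chart
import Groth.Agent.FittLib.Free
import Groth.Agent.GaetaGen.Algebra

/-!
Maps between modules with frames: injectivity, bases and torsion of the cokernel.
-/

set_option autoImplicit false
set_option linter.unusedSectionVars false
set_option linter.style.haveILetI false
set_option backward.isDefEq.respectTransparency false

universe u v w

open CategoryTheory CategoryTheory.Limits AlgebraicGeometry
open Groth.Agent.QC (res resO app_res res_self resO_self res_smul)

noncomputable section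

namespace Groth.Agent.GaetaGen

variable {X : Scheme.{u}} {β : Type v} [Fintype β] {α : Type w} [Fintype α]

/-- A frame on `U`: sections which form a basis over every smaller open. -/
def IsFrame {M : X.Modules} {U : X.Opens} (g : β → Γ(M, U)) : Prop :=
  ∀ (V : X.Opens) (h : V ≤ U), Function.Bijective fun c : β → Γ(X, V) => ∑ i, c i • res M h (g i)

lemma IsFrame.res {M : X.Modules} {U V : X.Opens} {g : β → Γ(M, U)} (hg : IsFrame g) (h : V ≤ U) :
    IsFrame fun i => res M h (g i) := fun W hW => by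
  have := hg W (hW.trans h)
  simpa only [QC.res_res] using this

/-- Frames from a decomposition into sheaves with generators. -/
theorem isFrame_of_split {M : X.Modules} {L : β → X.Modules} (ι : ∀ i, L i ⟶ M) (p : ∀ i, M ⟶ L i)
    (hself : ∀ i, ι i ≫ p i = 𝟙 (L i)) (horth : ∀ i j, i ≠ j → ι i ≫ p j = 0)
    (htot : ∑ i, p i ≫ ι i = 𝟙 M) {U : X.Opens} (e : ∀ i, Γ(L i, U)) (he : ∀ i, TMul.IsGen (e i)) :
    IsFrame fun i => (ι i).app U (e i) := by
  classical
  intro V hV
  have hcoord : ∀ (c : β → Γ(X, V)) (j : β),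
      (p j).app V (∑ i, c i • _root_.Groth.Agent.QC.res M hV ((ι i).app U (e i))) = c j • _root_.Groth.Agent.QC.res (L j) hV (e j) := by
    intro c j
    rw [map_sum, Finset.sum_eq_single j]
    · rw [Scheme.Modules.Hom.app_smul, app_res, ← ConcreteCategory.comp_apply, ← Scheme.Modules.Hom.comp_app, hself]
      rfl
    · intro i _ hi
      rw [Scheme.Modules.Hom.app_smul, app_res, ← ConcreteCategory.comp_apply, ← Scheme.Modules.Hom.comp_app,
        horth i j hi]
      exact smul_zero _
    · exact fun h => absurd (Finset.mem_univ _) h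
  constructor
  · intro c c' h
    funext j
    have := congrArg (fun s => (p j).app V s) h
    simp only [hcoord] at this
    exact (he j V hV).1 this
  · intro s
    choose c hc using fun j => (he j V hV).2 ((p j).app V s)
    refine ⟨c, ?_⟩
    simp only
    conv_rhs => rw [show s = DetReg.evalApp s (𝟙 M) from rfl, ← htot, map_sum]
    refine Finset.sum_congr rfl fun i _ => ?_
    change _ = (ι i).app V ((p i).app V s)
    rw [← hc i, app_res]
    exact (Scheme.Modules.Hom.app_smul _ _ _).symm

variable {A B : X.Modules} {U : X.Opens} {a : ℕ} {e : Fin a → Γ(A, U)} {f : β → Γ(B, U)}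
  (φ : A ⟶ B) {M : β → Fin a → Γ(X, U)}

/-- `φ` has matrix `M` in the given frames. -/
def HasMat (φ : A ⟶ B) (e : Fin a → Γ(A, U)) (f : β → Γ(B, U)) (M : β → Fin a → Γ(X, U)) : Prop :=
  ∀ j, φ.app U (e j) = ∑ i, M i j • f i

variable {φ}

lemma HasMat.res (h : HasMat φ e f M) {V : X.Opens} (hV : V ≤ U) :
    HasMat φ (fun j => res A hV (e j)) (fun i => res B hV (f i)) (fun i j => resO X hV (M i j)) := fun j => by
  rw [← app_res, h j, map_sum]
  exact Finset.sum_congr rfl fun i _ => res_smul _ _ _ _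

lemma HasMat.app_sum (h : HasMat φ e f M) (u : Fin a → Γ(X, U)) :
    φ.app U (∑ j, u j • e j) = ∑ i, (∑ j, M i j * u j) • f i := by
  simp only [map_sum, Scheme.Modules.Hom.app_smul, h _, Finset.smul_sum, smul_smul, Finset.sum_smul]
  rw [Finset.sum_comm]
  exact Finset.sum_congr rfl fun i _ => Finset.sum_congr rfl fun j _ => by rw [mul_comm]

lemma frame_sum {M : X.Modules} {U : X.Opens} {g : β → Γ(M, U)} (hg : IsFrame g) :
    Function.Bijective fun c : β → Γ(X, U) => ∑ i, c i • g i := by
  have := hg U le_rfl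
  simpa only [res_self] using this

theorem app_injective (he : IsFrame e) (hf : IsFrame f) (h : HasMat φ e f M) (T : Fin a → β)
    (hT : IsLeftRegular (minor M T)) : Function.Injective (φ.app U) := by
  intro s t hst
  obtain ⟨u, rfl⟩ := (frame_sum he).2 s
  obtain ⟨v, rfl⟩ := (frame_sum he).2 t
  simp only [h.app_sum] at hst
  have hMu := congrFun ((frame_sum hf).1 hst)
  have huv : u - v = 0 := eq_zero_of_minor M T hT fun i => by
    simp only [Pi.sub_apply, mul_sub, Finset.sum_sub_distrib]
    exact sub_eq_zero.2 (hMu i)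
  rw [sub_eq_zero.1 huv]

lemma π_app_eq_zero_iff (hA : Coh.IsQCoh A) (hB : Coh.IsQCoh B) (hU : IsAffineOpen U) (t : Γ(B, U)) :
    (cokernel.π φ).app U t = 0 ↔ ∃ s, φ.app U s = t := by
  refine ⟨DetReg.exists_preimage hA hB φ hU, ?_⟩
  rintro ⟨s, rfl⟩
  rw [← ConcreteCategory.comp_apply, ← Scheme.Modules.Hom.comp_app, cokernel.condition]
  rfl

lemma π_surjective (hA : Coh.IsQCoh A) (hB : Coh.IsQCoh B) (hU : IsAffineOpen U) :
    Function.Surjective ((cokernel.π φ).app U) :=
  QC.app_surjective_of_epi hU hB (QC.isQCoh_cokernel hA hB φ) (cokernel.π φ)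

/-- Torsion-freeness of the cokernel. -/
theorem coker_torsionfree [IsDomain Γ(X, U)] (hA : Coh.IsQCoh A) (hB : Coh.IsQCoh B) (hU : IsAffineOpen U)
    (he : IsFrame e) (hf : IsFrame f) (h : HasMat φ e f M)
    (hdvd : ∀ r c : Γ(X, U), r ≠ 0 → (∀ T : Fin a → β, r ∣ minor M T * c) → r ∣ c)
    {r : Γ(X, U)} (hr : r ≠ 0) {q : Γ((cokernel φ), U)} (hq : r • q = 0) : q = 0 := by
  obtain ⟨t, rfl⟩ := π_surjective (φ := φ) hA hB hU q
  obtain ⟨x, rfl⟩ := (frame_sum hf).2 t
  simp only at hq ⊢
  rw [← Scheme.Modules.Hom.app_smul, Finset.smul_sum] at hq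
  obtain ⟨s, hs⟩ := (π_app_eq_zero_iff hA hB hU _).1 hq
  obtain ⟨u, rfl⟩ := (frame_sum he).2 s
  simp only [h.app_sum, smul_smul] at hs
  obtain ⟨u', hu'⟩ := torsionfree M hdvd hr (x := x) (u := u)
    fun i => (congrFun ((frame_sum hf).1 hs) i).symm
  refine (π_app_eq_zero_iff hA hB hU _).2 ⟨∑ j, u' j • e j, ?_⟩
  rw [h.app_sum]
  exact Finset.sum_congr rfl fun i _ => by rw [hu' i]

/-- A unit minor gives a basis of the cokernel. -/
theorem exists_basis [DecidableEq β] (hA : Coh.IsQCoh A) (hB : Coh.IsQCoh B) (hU : IsAffineOpen U)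
    (he : IsFrame e) (hf : IsFrame f) (h : HasMat φ e f M) (T : Fin a → β) (hT : Function.Injective T)
    (hu : IsUnit (minor M T)) :
    Nonempty (Module.Basis (Fin (Fintype.card β - a)) Γ(X, U) Γ((cokernel φ), U)) := by
  let J := {i : β // i ∉ Finset.univ.image T}
  let b : J → Γ((cokernel φ), U) := fun i => (cokernel.π φ).app U (f i.1)
  have hsum : ∀ c : J → Γ(X, U), ∑ i, c i • b i =
      (cokernel.π φ).app U (∑ i, (if h : i ∈ Finset.univ.image T then 0 else c ⟨i, h⟩) • f i) := by
    intro c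
    rw [map_sum]
    simp only [Scheme.Modules.Hom.app_smul]
    rw [← Finset.sum_compl_add_sum (Finset.univ.image T)]
    rw [Finset.sum_eq_zero (s := Finset.univ.image T) (fun i hi => by rw [dif_pos hi]; exact zero_smul _ _), add_zero,
      Finset.sum_subtype (Finset.univ.image T)ᶜ (fun i => Finset.mem_compl) (fun i =>
        (if h : i ∈ Finset.univ.image T then 0 else c ⟨i, h⟩) • (cokernel.π φ).app U (f i))]
    exact Finset.sum_congr rfl fun i _ => by rw [dif_neg i.2]
  have hli : LinearIndependent Γ(X, U) b := by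
    rw [Fintype.linearIndependent_iff]
    intro c hc i
    rw [hsum] at hc
    obtain ⟨s, hs⟩ := (π_app_eq_zero_iff hA hB hU _).1 hc
    obtain ⟨u, rfl⟩ := (frame_sum he).2 s
    simp only [h.app_sum] at hs
    have hx := congrFun ((frame_sum hf).1 hs)
    have h1 := minor_smul M T u
    rw [show (fun p => ∑ q, M (T p) q * u q) = 0 from funext fun p => (hx (T p)).trans
      (dif_pos (Finset.mem_image_of_mem T (Finset.mem_univ p))), Matrix.mulVec_zero] at h1
    have hu0 : u = 0 := funext fun q => hu.mul_left_cancel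
      (show minor M T * u q = minor M T * 0 by rw [mul_zero]; exact congrFun h1 q)
    have := hx i.1
    rw [hu0] at this
    rw [dif_neg i.2] at this
    simpa using this.symm
  have hsp : ⊤ ≤ Submodule.span Γ(X, U) (Set.range b) := by
    rintro q -
    obtain ⟨t, rfl⟩ := π_surjective (φ := φ) hA hB hU q
    obtain ⟨x, rfl⟩ := (frame_sum hf).2 t
    let u : Fin a → Γ(X, U) := fun j =>
      Ring.inverse (minor M T) * ((Matrix.of fun p q => M (T p) q).adjugate.mulVec fun p => x (T p)) j
    have hMu : ∀ p, ∑ q, M (T p) q * u q = x (T p) := fun p => by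
      have h1 : ((Matrix.of fun p q => M (T p) q) * (Matrix.of fun p q => M (T p) q).adjugate).mulVec (fun p => x (T p)) p =
          minor M T * x (T p) := by
        rw [Matrix.mul_adjugate, Matrix.smul_mulVec, Matrix.one_mulVec]
        rfl
      rw [← Matrix.mulVec_mulVec] at h1
      change ∑ q, M (T p) q * (Ring.inverse (minor M T) * _) = _
      simp only [mul_left_comm (M (T p) _), ← Finset.mul_sum]
      rw [show ∑ q, M (T p) q * ((Matrix.of fun p q => M (T p) q).adjugate.mulVec fun p => x (T p)) q =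
        minor M T * x (T p) from h1, ← mul_assoc, Ring.inverse_mul_cancel _ hu, one_mul]
    have hq : (cokernel.π φ).app U (∑ i, x i • f i) =
        ∑ i : J, (x i.1 - ∑ q, M i.1 q * u q) • b i := by
      rw [hsum]
      have h0 : (cokernel.π φ).app U (φ.app U (∑ j, u j • e j)) = 0 := (π_app_eq_zero_iff hA hB hU _).2 ⟨_, rfl⟩
      rw [← sub_zero ((cokernel.π φ).app U (∑ i, x i • f i)), ← h0, h.app_sum, ← map_sub, ← Finset.sum_sub_distrib]
      refine congrArg _ (Finset.sum_congr rfl fun i _ => ?_)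
      rw [← sub_smul]
      by_cases hi : i ∈ Finset.univ.image T
      · obtain ⟨p, -, rfl⟩ := Finset.mem_image.1 hi
        rw [dif_pos hi, hMu, sub_self]
      · rw [dif_neg hi]
    simp only
    rw [hq]
    exact Submodule.sum_mem _ fun i _ => Submodule.smul_mem _ _ (Submodule.subset_span ⟨i, rfl⟩)
  have hcard : Fintype.card J = Fintype.card β - a := by
    rw [Fintype.card_subtype_compl, Fintype.card_coe, Finset.card_image_of_injective _ hT, Finset.card_univ,
      Fintype.card_fin]
  exact ⟨(Module.Basis.mk hli hsp).reindex (Fintype.equivFinOfCardEq hcard)⟩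

/-- Surjectivity onto some of the frame. -/
theorem exists_combination {α : Type w} [Fintype α] (hA : Coh.IsQCoh A) (hB : Coh.IsQCoh B) (hU : IsAffineOpen U)
    (hf : IsFrame f) (h : HasMat φ e f M) {b : ℕ} (r₁ : Fin b → β) (r₂ : α → β)
    (hr : ∀ i, (∃ p, r₁ p = i) ∨ ∃ p, r₂ p = i)
    (hspan : Ideal.span (Set.range fun T : Fin b → Fin a => (Matrix.of fun p q => M (r₁ p) (T q)).det) = ⊤)
    (q : Γ((cokernel φ), U)) :
    q ∈ Submodule.span Γ(X, U) (Set.range fun p => (cokernel.π φ).app U (f (r₂ p))) := by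
  obtain ⟨t, rfl⟩ := π_surjective (φ := φ) hA hB hU q
  obtain ⟨x, rfl⟩ := (frame_sum hf).2 t
  obtain ⟨u, hu⟩ := surjective_of_span (fun p q => M (r₁ p) q) hspan (fun p => x (r₁ p))
  have h0 : (cokernel.π φ).app U (φ.app U (∑ j, u j • e j)) = 0 := (π_app_eq_zero_iff hA hB hU _).2 ⟨_, rfl⟩
  simp only
  rw [← sub_zero ((cokernel.π φ).app U (∑ i, x i • f i)), ← h0, h.app_sum, ← map_sub, ← Finset.sum_sub_distrib,
    map_sum]
  refine Submodule.sum_mem _ fun i _ => ?_
  rw [← sub_smul, Scheme.Modules.Hom.app_smul]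
  rcases hr i with ⟨p, rfl⟩ | ⟨p, rfl⟩
  · rw [hu p, sub_self]
    rw [show (0 : Γ(X, U)) • (cokernel.π φ).app U (f (r₁ p)) = 0 from zero_smul Γ(X, U) _]
    exact zero_mem _
  · exact Submodule.smul_mem _ _ (Submodule.subset_span ⟨p, rfl⟩)

end Groth.Agent.GaetaGen
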