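import Groth.Agent.GaetaGen.Main

/-!
General maps between sums of line bundles on the plane: the three open conditions.
-/

set_option autoImplicit false
set_option linter.unusedSectionVars false
set_option linter.style.haveILetI false
set_option backward.isDefEq.respectTransparency false
set_option maxHeartbeats 1000000

universe u

open CategoryTheory CategoryTheory.Limits AlgebraicGeometry MvPolynomial
open Groth.Agent.RegPow (S)

noncomputable section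

namespace Groth.Agent.GaetaGen

variable {k : Type u} [Field k] {a a₂ a₃ : ℕ}

/-- The variables, indexed by naturals. -/
def xv (k : Type u) [Field k] (n : ℕ) : S k 2 := if h : n < 3 then X (⟨n, h⟩ : Fin 3) else 0

lemma xv_fin (s : Fin 3) : xv k s = X s := by rw [xv, dif_pos s.2]

lemma band_mem_grading {p q : ℕ} (w : ℕ) (hw : w ≤ 2) (d : Fin q → ℕ) (i : Fin q) (j : Fin p) :
    band w (xv k) d i j ∈ CohB1.polyGrading 2 k (d i) := by
  unfold band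
  split_ifs with h
  · rw [show (i : ℕ) - j = ((⟨(i : ℕ) - j, by omega⟩ : Fin 3) : ℕ) from rfl, xv_fin]
    exact (mem_homogeneousSubmodule _ _).2 (by simpa using (isHomogeneous_X k _).pow (d i))
  · exact zero_mem _

/-- The enumeration of the rows. -/
abbrev rowEquiv (a₂ a₃ : ℕ) : Fin a₂ ⊕ Fin a₃ ≃ Fin (a₂ + a₃) := finSumFinEquiv

/-- A banded map. -/
theorem exists_band (w : ℕ) (hw : w ≤ 2) (hab : a + w ≤ a₂ + a₃) :
    ∃ φ : AA k a ⟶ BB k a₂ a₃, ∀ s : Fin 3, (s : ℕ) ≤ w →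
      (X s : S k 2) ∈ (Ideal.span (Set.range (Mn φ))).radical := by
  let d : Fin (a₂ + a₃) → ℕ := fun i => dd ((rowEquiv a₂ a₃).symm i)
  obtain ⟨φ, hφ⟩ := exists_hom (k := k) (fun i j => band (a := a) w (xv k) d (rowEquiv a₂ a₃ i) j) fun i j => by
    have := band_mem_grading (k := k) w hw d (rowEquiv a₂ a₃ i) j
    rwa [show d (rowEquiv a₂ a₃ i) = dd i by simp only [d, Equiv.symm_apply_apply]] at this
  refine ⟨φ, fun s hs => ?_⟩
  rw [← xv_fin s]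
  refine band_pow_mem hab (xv k) d (fun i => ?_) _ (fun T => ?_) hs
  · show 1 ≤ dd ((rowEquiv a₂ a₃).symm i)
    rcases (rowEquiv a₂ a₃).symm i with j | j <;> simp [dd]
  · refine Ideal.subset_span ⟨fun p => (rowEquiv a₂ a₃).symm (T p), ?_⟩
    rw [Mn]
    congr 1
    refine Matrix.ext fun p q => ?_
    rw [Matrix.of_apply, Matrix.of_apply, hφ, Equiv.apply_symm_apply]

/-- A map whose `O(-1)` part is banded. -/
theorem exists_band_rows (ha : a₂ + 2 ≤ a) :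
    ∃ φ : AA k a ⟶ BB k a₂ a₃, ∀ s : Fin 3, (X s : S k 2) ∈ (Ideal.span (Set.range fun T : Fin a₂ → Fin a =>
      (Matrix.of fun p q => Lmat k a a₂ a₃ (Sum.inl p) (T q) φ).det)).radical := by
  obtain ⟨φ, hφ⟩ := exists_hom (k := k) (a := a) (a₂ := a₂) (a₃ := a₃)
    (Sum.elim (fun i j => band 2 (xv k) (fun _ => 1) j i) fun _ _ => 0) fun i j => by
      rcases i with i | i
      · exact band_mem_grading (k := k) 2 le_rfl (fun _ => 1) j i
      · exact zero_mem _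
  refine ⟨φ, fun s => ?_⟩
  rw [← xv_fin s]
  refine band_pow_mem ha (xv k) (fun _ : Fin a => 1) (fun _ => le_rfl) _ (fun T => ?_) (Nat.le_of_lt_succ s.2)
  refine Ideal.subset_span ⟨T, ?_⟩
  show Matrix.det _ = _
  rw [← Matrix.det_transpose]
  congr 1
  refine Matrix.ext fun p q => ?_
  rw [Matrix.transpose_apply, Matrix.of_apply, Matrix.of_apply, hφ]
  rfl

lemma exists_pow {I : Ideal (S k 2)} (h : ∀ s : Fin 3, (X s : S k 2) ∈ I.radical) :
    ∃ N : ℕ, ∀ s : Fin 3, (X s : S k 2) ^ N ∈ I := by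
  choose N hN using fun s => Ideal.mem_radical_iff.1 (h s)
  exact ⟨∑ s, N s, fun s => I.pow_mem_of_pow_mem (hN s) (Finset.single_le_sum (fun s _ => Nat.zero_le (N s)) (Finset.mem_univ s))⟩

/-- Some maximal minor is non-zero, in general. -/
theorem generic_mono (hab : a ≤ a₂ + a₃) : ∃ p : MvPolynomial (Fin (mm k a a₂ a₃)) k, p ≠ 0 ∧
    ∀ φ, eval (coord k a a₂ a₃ φ) p ≠ 0 → ∃ T, Mn φ T ≠ 0 := by
  obtain ⟨φ₀, h₀⟩ := exists_band (k := k) (a := a) (a₂ := a₂) (a₃ := a₃) 0 (Nat.zero_le 2) (by omega)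
  obtain ⟨T, hT⟩ : ∃ T, Mn φ₀ T ≠ 0 := by
    by_contra h
    push Not at h
    have hbot : Ideal.span (Set.range (Mn φ₀)) = ⊥ := Ideal.span_eq_bot.2 (by rintro _ ⟨T, rfl⟩; exact h T)
    have h0 := h₀ 0 (le_refl 0)
    rw [hbot] at h0
    obtain ⟨n, hn⟩ := Ideal.mem_radical_iff.1 h0
    exact pow_ne_zero n (X_ne_zero (0 : Fin 3)) (Ideal.mem_bot.1 hn)
  have hev : ∀ φ : AA k a ⟶ BB k a₂ a₃, ev (coord k a a₂ a₃ φ)
      (Matrix.of fun p q => UM k a a₂ a₃ (T p) q).det = Mn φ T := fun φ =>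
    (ev_UM (coord k a a₂ a₃ φ) T fun q => q).trans (by rw [LinearEquiv.symm_apply_apply]; rfl)
  obtain ⟨d, hd⟩ := exists_coeff_ne_zero hT
  refine ⟨coeff d (Matrix.of fun p q => UM k a a₂ a₃ (T p) q).det, fun h0 => hd ?_, fun φ hφ => ⟨T, fun h => hφ ?_⟩⟩
  · rw [← hev, ev, coeff_map, h0, map_zero]
  · rw [← coeff_map (eval (coord k a a₂ a₃ φ)), show MvPolynomial.map (eval (coord k a a₂ a₃ φ))
      (Matrix.of fun p q => UM k a a₂ a₃ (T p) q).det = Mn φ T from hev φ, h, coeff_zero]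

/-- Maximal minors without common zero, in general. -/
theorem generic_span (hab : a + 2 ≤ a₂ + a₃) : ∃ p : MvPolynomial (Fin (mm k a a₂ a₃)) k, p ≠ 0 ∧
    ∀ φ, eval (coord k a a₂ a₃ φ) p ≠ 0 → ∃ N, ∀ s : Fin 3, (X s : S k 2) ^ N ∈ Ideal.span (Set.range (Mn φ)) := by
  obtain ⟨φ₀, h₀⟩ := exists_band (k := k) (a := a) (a₂ := a₂) (a₃ := a₃) 2 le_rfl hab
  obtain ⟨N, hN⟩ := exists_pow fun s => h₀ s (Nat.le_of_lt_succ s.2)
  let F : (Fin a → Fin a₂ ⊕ Fin a₃) → MvPolynomial (Fin 3) (MvPolynomial (Fin (mm k a a₂ a₃)) k) :=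
    fun T => (Matrix.of fun p q => UM k a a₂ a₃ (T p) q).det
  have hev : ∀ v T, ev v (F T) = Mn ((coord k a a₂ a₃).symm v) T := fun v T => ev_UM v T fun q => q
  have hev' : ∀ φ : AA k a ⟶ BB k a₂ a₃, (fun T => ev (coord k a a₂ a₃ φ) (F T)) = Mn φ := fun φ =>
    funext fun T => by rw [hev, LinearEquiv.symm_apply_apply]
  obtain ⟨p, hp, hp'⟩ := exists_generic F (fun v T => by
    rw [hev]
    obtain ⟨e, he⟩ := Mn_mem ((coord k a a₂ a₃).symm v) T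
    exact ⟨e, (mem_homogeneousSubmodule _ _).1 he⟩) (coord k a a₂ a₃ φ₀) N fun s => by rw [hev']; exact hN s
  refine ⟨p, fun h => hp (by rw [h, map_zero]), fun φ hφ => ⟨Fintype.card (Fin 3) * N, fun s => ?_⟩⟩
  have := hp' _ hφ s
  rwa [hev'] at this

/-- Finitely many degeneracy points, in general. -/
theorem generic_finite (hab : a + 1 ≤ a₂ + a₃) : ∃ p : MvPolynomial (Fin (mm k a a₂ a₃)) k, p ≠ 0 ∧
    ∀ φ, eval (coord k a a₂ a₃ φ) p ≠ 0 → ∀ π : S k 2, Prime π → ∃ T, ¬ π ∣ Mn φ T := by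
  obtain ⟨φ₀, h₀⟩ := exists_band (k := k) (a := a) (a₂ := a₂) (a₃ := a₃) 1 (by omega) hab
  let F : Option (Fin a → Fin a₂ ⊕ Fin a₃) → MvPolynomial (Fin 3) (MvPolynomial (Fin (mm k a a₂ a₃)) k) :=
    fun o => o.elim (X 2) fun T => (Matrix.of fun p q => UM k a a₂ a₃ (T p) q).det
  have hev : ∀ φ : AA k a ⟶ BB k a₂ a₃, Set.range (fun o => ev (coord k a a₂ a₃ φ) (F o)) =
      insert (X 2 : S k 2) (Set.range (Mn φ)) := fun φ => by
    rw [show (fun o => ev (coord k a a₂ a₃ φ) (F o)) = fun o => o.elim (X 2) (Mn φ) from funext fun o => by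
      rcases o with _ | T
      · exact MvPolynomial.map_X _ _
      · exact (ev_UM (coord k a a₂ a₃ φ) T fun q => q).trans (by rw [LinearEquiv.symm_apply_apply]; rfl)]
    ext x
    constructor
    · rintro ⟨_ | T, rfl⟩
      exacts [Or.inl rfl, Or.inr ⟨T, rfl⟩]
    · rintro (rfl | ⟨T, rfl⟩)
      exacts [⟨none, rfl⟩, ⟨some T, rfl⟩]
  obtain ⟨N, hN⟩ := exists_pow (I := Ideal.span (insert (X 2 : S k 2) (Set.range (Mn φ₀)))) fun s => by
    by_cases hs : (s : ℕ) ≤ 1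
    · exact Ideal.radical_mono (Ideal.span_mono (Set.subset_insert _ _)) (h₀ s hs)
    · obtain rfl : s = 2 := Fin.ext (by have := s.2; simp; omega)
      exact Ideal.le_radical (Ideal.subset_span (Set.mem_insert _ _))
  obtain ⟨p, hp, hp'⟩ := exists_generic F (fun v o => by
    rcases o with _ | T
    · exact ⟨1, by simpa [F] using isHomogeneous_X k (2 : Fin 3)⟩
    · rw [show ev v (F (some T)) = Mn ((coord k a a₂ a₃).symm v) T from ev_UM v T fun q => q]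
      obtain ⟨e, he⟩ := Mn_mem ((coord k a a₂ a₃).symm v) T
      exact ⟨e, (mem_homogeneousSubmodule _ _).1 he⟩) (coord k a a₂ a₃ φ₀) N fun s => by rw [hev]; exact hN s
  refine ⟨p, fun h => hp (by rw [h, map_zero]), fun φ hφ π hπ => ?_⟩
  refine not_forall_dvd (Mn φ) (fun T => ?_) (Fintype.card (Fin 3) * N) (fun s => ?_) hπ
  · obtain ⟨e, he⟩ := Mn_mem φ T
    exact ⟨e, (mem_homogeneousSubmodule _ _).1 he⟩
  · have := hp' _ hφ s
    rwa [hev] at this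

/-- The `O(-1)` rows are surjective everywhere, in general. -/
theorem generic_rows (ha : a₂ + 2 ≤ a) : ∃ p : MvPolynomial (Fin (mm k a a₂ a₃)) k, p ≠ 0 ∧
    ∀ φ, eval (coord k a a₂ a₃ φ) p ≠ 0 → ∃ N, ∀ s : Fin 3, (X s : S k 2) ^ N ∈ Ideal.span (Set.range
      fun T : Fin a₂ → Fin a => (Matrix.of fun p q => Lmat k a a₂ a₃ (Sum.inl p) (T q) φ).det) := by
  obtain ⟨φ₀, h₀⟩ := exists_band_rows (k := k) (a₃ := a₃) ha
  obtain ⟨N, hN⟩ := exists_pow h₀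
  let F : (Fin a₂ → Fin a) → MvPolynomial (Fin 3) (MvPolynomial (Fin (mm k a a₂ a₃)) k) :=
    fun T => (Matrix.of fun p q => UM k a a₂ a₃ (Sum.inl p) (T q)).det
  have hev : ∀ v T, ev v (F T) = (Matrix.of fun p q =>
      Lmat k a a₂ a₃ (Sum.inl p) (T q) ((coord k a a₂ a₃).symm v)).det := fun v T => ev_UM v Sum.inl T
  have hev' : ∀ φ : AA k a ⟶ BB k a₂ a₃, (fun T => ev (coord k a a₂ a₃ φ) (F T)) = fun T : Fin a₂ → Fin a =>
      (Matrix.of fun p q => Lmat k a a₂ a₃ (Sum.inl p) (T q) φ).det := fun φ =>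
    funext fun T => by rw [hev, LinearEquiv.symm_apply_apply]
  obtain ⟨p, hp, hp'⟩ := exists_generic F (fun v T => by
    rw [hev]
    exact ⟨_, det_isHomogeneous _ (fun _ => 1) fun p q =>
      (mem_homogeneousSubmodule _ _).1 (Lmat_mem _ (Sum.inl p) (T q))⟩) (coord k a a₂ a₃ φ₀) N fun s => by rw [hev']; exact hN s
  refine ⟨p, fun h => hp (by rw [h, map_zero]), fun φ hφ => ⟨Fintype.card (Fin 3) * N, fun s => ?_⟩⟩
  have := hp' _ hφ s
  rwa [hev'] at this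

/-- Locally free cokernel in general. -/
theorem main_locFree (hab : a + 2 ≤ a₂ + a₃) : ∃ (m : ℕ) (c : (AA k a ⟶ BB k a₂ a₃) ≃ₗ[k] (Fin m → k))
    (p : MvPolynomial (Fin m) k), p ≠ 0 ∧ ∀ φ, eval (c φ) p ≠ 0 →
      Mono φ ∧ FlatMod.IsFinLocFreeOfRank (a₂ + a₃ - a) (cokernel φ) := by
  obtain ⟨p₁, h₁, h₁'⟩ := generic_mono (k := k) (a := a) (a₂ := a₂) (a₃ := a₃) (by omega)
  obtain ⟨p₂, h₂, h₂'⟩ := generic_span (k := k) hab
  refine ⟨_, coord k a a₂ a₃, p₁ * p₂, mul_ne_zero h₁ h₂, fun φ hφ => ?_⟩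
  rw [map_mul] at hφ
  obtain ⟨T, hT⟩ := h₁' φ (left_ne_zero_of_mul hφ)
  obtain ⟨N, hN⟩ := h₂' φ (right_ne_zero_of_mul hφ)
  exact ⟨mono_of_minor φ T hT, locFree_of_span φ (n := fun _ => N) hN⟩

/-- Torsion-free cokernel in general. -/
theorem main_pure (hab : a₂ + a₃ = a + 1) : ∃ (m : ℕ) (c : (AA k a ⟶ BB k a₂ a₃) ≃ₗ[k] (Fin m → k))
    (p : MvPolynomial (Fin m) k), p ≠ 0 ∧ ∀ φ, eval (c φ) p ≠ 0 →
      Mono φ ∧ Coh.IsCoh (cokernel φ) ∧ ¬ IsZero (cokernel φ) ∧ ShStab.IsPure (P2 k) (cokernel φ) 2 := by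
  obtain ⟨p₁, h₁, h₁'⟩ := generic_mono (k := k) (a := a) (a₂ := a₂) (a₃ := a₃) (by omega)
  obtain ⟨p₂, h₂, h₂'⟩ := generic_finite (k := k) (a := a) (a₂ := a₂) (a₃ := a₃) (by omega)
  refine ⟨_, coord k a a₂ a₃, p₁ * p₂, mul_ne_zero h₁ h₂, fun φ hφ => ?_⟩
  rw [map_mul] at hφ
  obtain ⟨T, hT⟩ := h₁' φ (left_ne_zero_of_mul hφ)
  haveI : IsNoetherian (CohB1.ProjSpace 2 k) := CohFinite.isNoetherian_projSpace 2 k
  exact ⟨mono_of_minor φ T hT, QC.isCoh_cokernel (isCohA (k := k) (a := a)).1 (isCohB (k := k) (a₂ := a₂) (a₃ := a₃)) φ,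
    not_isZero φ (by omega) T hT, pure_of_nodiv φ (h₂' φ (right_ne_zero_of_mul hφ))⟩

/-- Globally generated cokernel in general. -/
theorem main_gg (hab : a ≤ a₂ + a₃) (h₃ : a₂ + 2 ≤ a) : ∃ (m : ℕ) (c : (AA k a ⟶ BB k a₂ a₃) ≃ₗ[k] (Fin m → k))
    (p : MvPolynomial (Fin m) k), p ≠ 0 ∧ ∀ φ, eval (c φ) p ≠ 0 →
      Mono φ ∧ Curv2.IsGloballyGenerated (cokernel φ) := by
  obtain ⟨p₁, h₁, h₁'⟩ := generic_mono (k := k) (a := a) (a₂ := a₂) (a₃ := a₃) hab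
  obtain ⟨p₂, h₂, h₂'⟩ := generic_rows (k := k) (a₃ := a₃) h₃
  refine ⟨_, coord k a a₂ a₃, p₁ * p₂, mul_ne_zero h₁ h₂, fun φ hφ => ?_⟩
  rw [map_mul] at hφ
  obtain ⟨T, hT⟩ := h₁' φ (left_ne_zero_of_mul hφ)
  obtain ⟨N, hN⟩ := h₂' φ (right_ne_zero_of_mul hφ)
  exact ⟨mono_of_minor φ T hT, isGloballyGenerated_of_span φ (n := fun _ => N) hN⟩

end Groth.Agent.GaetaGen
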