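import Groth.Agent.CurveRR.TmapR
import Groth.Agent.CurveRR.GlobGen
import Groth.Agent.CurveRR.Curve
import Groth.Agent.W7Hull.ExtTest
import Groth.Agent.RegTilde.LinRes

/-!
Vanishing of the cohomology of `I ⊗ coker φ` from a comparison on the subscheme cut out by `I`.
-/

set_option autoImplicit false
set_option linter.unusedSectionVars false
set_option linter.style.haveILetI false
set_option backward.isDefEq.respectTransparency false
set_option maxHeartbeats 1000000

universe u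

open CategoryTheory CategoryTheory.Limits AlgebraicGeometry
open Groth.Agent.CohQC (toAbF)
open Groth.Agent.CohFinite (tmap shortExact_toAb δH δH_natural δH_eq_zero_iff map_g_eq_zero_iff map_f_eq_zero_iff)

noncomputable section

namespace Groth.Agent.GaetaGen.Vanish

variable {X : Scheme.{u}}

/-- `M ⊗ -`. -/
abbrev L (M : X.Modules) : X.Modules ⥤ X.Modules := (DCoh.tensorBi (X := X)).obj M

theorem right_exact (M : X.Modules) {A B : X.Modules} (φ : A ⟶ B) :
    Epi ((L M).map (cokernel.π φ)) ∧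
      (ShortComplex.mk ((L M).map φ) ((L M).map (cokernel.π φ))
        (by rw [← Functor.map_comp, cokernel.condition, Functor.map_zero])).Exact := by
  haveI : PreservesColimitsOfSize.{u, u} (L M) := ModSiteTensor.preservesColimits_tensorBi_obj X.sheaf M
  haveI : PreservesColimitsOfSize.{0, 0} (L M) := preservesSmallestColimits_of_preservesColimits _
  have h := CokernelCofork.mapIsColimit _ (cokernelIsCokernel φ) (L M)
  exact ⟨Cofork.IsColimit.epi h, ShortComplex.exact_of_g_is_cokernel _ h⟩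

variable (Z : X.IdealSheafData)

/-- `I ⊗ E ⟶ E`. -/
def incE (E : X.Modules) : CohB1.tensorMod (ClSub.idealMod Z) E ⟶ E :=
  tmap (ClSub.idealModι Z) E ≫ (TMul.leftUnitIso E).hom

/-- `E ⟶ O_Z ⊗ E`. -/
def resE (E : X.Modules) : E ⟶ CohB1.tensorMod (ClSub.quotMod Z) E :=
  (TMul.leftUnitIso E).inv ≫ tmap (ClSub.toSubscheme Z) E

lemma inc_res (E : X.Modules) : incE Z E ≫ resE Z E = 0 := by
  rw [incE, resE, Category.assoc, Iso.hom_inv_id_assoc, ← CohFinite.tmap_comp]
  rw [show ClSub.idealModι Z ≫ ClSub.toSubscheme Z = 0 from kernel.condition _, CohFinite.tmap_zero]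

/-- The restriction sequence. -/
abbrev col (E : X.Modules) : ShortComplex X.Modules := ShortComplex.mk (incE Z E) (resE Z E) (inc_res Z E)

theorem col_shortExact {E : X.Modules} (hE : CurveRR.HasFrames E) : (col Z E).ShortExact := by
  have h₀ := CurveRR.shortExact_tmapR hE (CurveRR.ideal_shortExact Z)
  refine ShortComplex.shortExact_of_iso ?_ h₀
  refine ShortComplex.isoMk (Iso.refl _) ?_ (Iso.refl _) ?_ ?_
  · exact TMul.leftUnitIso E
  · exact Category.id_comp _
  · exact (Iso.hom_inv_id_assoc _ _).trans (Category.comp_id _).symm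

lemma inc_app_tm (E : X.Modules) {U : X.Opens} (a : Γ(ClSub.idealMod Z, U)) (e : Γ(E, U)) :
    (incE Z E).app U (TMul.tm a e) = (show Γ(X, U) from (ClSub.idealModι Z).app U a) • e :=
  (congrArg ((TMul.leftUnitIso E).hom.app U) (CohFinite.tmap_tm _ E a e)).trans (CurveRR.leftUnitIso_tm E _ e)

lemma inc_nat {A B : X.Modules} (φ : A ⟶ B) :
    (L (ClSub.idealMod Z)).map φ ≫ incE Z B = incE Z A ≫ φ := TMul.hom_ext fun U a e => by
  change (incE Z B).app U (((L (ClSub.idealMod Z)).map φ).app U (TMul.tm a e)) = φ.app U ((incE Z A).app U (TMul.tm a e))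
  rw [W7Hull.bi_map_tm, inc_app_tm, inc_app_tm, Scheme.Modules.Hom.app_smul]

lemma res_nat {A B : X.Modules} (φ : A ⟶ B) :
    φ ≫ resE Z B = resE Z A ≫ (L (ClSub.quotMod Z)).map φ := by
  rw [← cancel_epi (TMul.leftUnitIso A).hom]
  simp only [resE, Category.assoc, Iso.hom_inv_id_assoc]
  refine TMul.hom_ext fun U a e => ?_
  change (tmap (ClSub.toSubscheme Z) B).app U ((TMul.leftUnitIso B).inv.app U (φ.app U
    ((TMul.leftUnitIso A).hom.app U (TMul.tm a e)))) =
      ((L (ClSub.quotMod Z)).map φ).app U ((tmap (ClSub.toSubscheme Z) A).app U (TMul.tm a e))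
  rw [CurveRR.leftUnitIso_tm, CohFinite.tmap_tm, W7Hull.bi_map_tm, Scheme.Modules.Hom.app_smul]
  have h : ∀ w, (TMul.leftUnitIso B).inv.app U ((TMul.leftUnitIso B).hom.app U w) = w := fun w =>
    congrArg (fun f : CohB1.tensorMod (Coh.structureModule X) B ⟶ CohB1.tensorMod (Coh.structureModule X) B =>
      f.app U w) (TMul.leftUnitIso B).hom_inv_id
  rw [← CurveRR.leftUnitIso_tm B a (φ.app U e), h]
  exact CohFinite.tmap_tm _ B a (φ.app U e)

/-- `O_Z ⊗ φ`. -/
def qMap {A B : X.Modules} (φ : A ⟶ B) :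
    CohB1.tensorMod (ClSub.quotMod Z) A ⟶ CohB1.tensorMod (ClSub.quotMod Z) B :=
  (L (ClSub.quotMod Z)).map φ

lemma qMap_tm {A B : X.Modules} (φ : A ⟶ B) {U : X.Opens} (a : Γ(ClSub.quotMod Z, U)) (e : Γ(A, U)) :
    (qMap Z φ).app U (TMul.tm a e) = TMul.tm a (φ.app U e) := W7Hull.bi_map_tm _ φ a e

/-- Degree zero cohomology is global sections. -/
abbrev g0 (M : X.Modules) : Coh.HH X M 0 ≃+ Γ(M, ⊤) := Sheaf.H.equiv₀ (Coh.toAb M) isTerminalTop

lemma g0_map {M N : X.Modules} (f : M ⟶ N) (x : Coh.HH X M 0) :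
    g0 N (Sheaf.H.map ((SheafOfModules.toSheaf X.ringCatSheaf).map f) 0 x) = f.app ⊤ (g0 M x) :=
  (Sheaf.H.equiv₀_naturality _ _ _).symm

variable {A B : X.Modules} (φ : A ⟶ B)

/-- The map of restriction sequences. -/
def colMap : col Z A ⟶ col Z B :=
  ShortComplex.homMk ((L (ClSub.idealMod Z)).map φ) φ (qMap Z φ) (inc_nat Z φ) (res_nat Z φ)

/-- The criterion. -/
theorem main [Mono φ] (hfA : CurveRR.HasFrames A) (hfB : CurveRR.HasFrames B)
    (hA : ∀ q, Subsingleton (Coh.HH X A q)) (hB : ∀ q, 1 ≤ q → Subsingleton (Coh.HH X B q))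
    (hQA : ∀ q, 1 ≤ q → Subsingleton (Coh.HH X (CohB1.tensorMod (ClSub.quotMod Z) A) q))
    (hQB : ∀ q, 1 ≤ q → Subsingleton (Coh.HH X (CohB1.tensorMod (ClSub.quotMod Z) B) q))
    (hinj : ∀ (a : Γ(CohB1.tensorMod (ClSub.quotMod Z) A, ⊤)) (b : Γ(B, ⊤)),
      (qMap Z φ).app ⊤ a + (resE Z B).app ⊤ b = 0 → a = 0 ∧ b = 0)
    (hsurj : ∀ c : Γ(CohB1.tensorMod (ClSub.quotMod Z) B, ⊤), ∃ a b,
      (qMap Z φ).app ⊤ a + (resE Z B).app ⊤ b = c) (q : ℕ) :
    Subsingleton (Coh.HH X (CohB1.tensorMod (ClSub.idealMod Z) (cokernel φ)) q) := by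
  have hcA := col_shortExact Z hfA
  have hcB := col_shortExact Z hfB
  haveI := hcA.mono_f
  haveI := hcB.mono_f
  haveI : Mono ((L (ClSub.idealMod Z)).map φ) := by
    haveI : Mono ((L (ClSub.idealMod Z)).map φ ≫ incE Z B) := by
      rw [inc_nat]
      haveI : Mono (incE Z A) := hcA.mono_f
      exact mono_comp _ _
    exact mono_of_mono _ (incE Z B)
  obtain ⟨hepi, hex⟩ := right_exact (ClSub.idealMod Z) φ
  have hT : (ShortComplex.mk ((L (ClSub.idealMod Z)).map φ) ((L (ClSub.idealMod Z)).map (cokernel.π φ))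
      (by rw [← Functor.map_comp, cokernel.condition, Functor.map_zero])).ShortExact :=
    { exact := hex, mono_f := inferInstance, epi_g := hepi }
  let θ := (toAbF X).mapShortComplex.map (colMap Z φ)
  have hδ : ∀ n x, δH (shortExact_toAb hcB) n (Sheaf.H.map θ.τ₃ n x) =
      Sheaf.H.map θ.τ₁ (n + 1) (δH (shortExact_toAb hcA) n x) :=
    fun n x => δH_natural (shortExact_toAb hcA) (shortExact_toAb hcB) θ n x
  have hIA : ∀ n, 1 ≤ n → Subsingleton (Coh.HH X (CohB1.tensorMod (ClSub.idealMod Z) A) (n + 1)) := fun n hn =>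
    LinRes.hh_left hcA n (fun x => ⟨0, (@Subsingleton.elim _ (hQA n hn) _ x)⟩) (hA (n + 1))
  have hIB : ∀ n, 1 ≤ n → Subsingleton (Coh.HH X (CohB1.tensorMod (ClSub.idealMod Z) B) (n + 1)) := fun n hn =>
    LinRes.hh_left hcB n (fun x => ⟨0, (@Subsingleton.elim _ (hQB n hn) _ x)⟩) (hB (n + 1) (by omega))
  refine subsingleton_of_forall_eq 0 fun x => ?_
  obtain ⟨y, hy⟩ : ∃ y, Sheaf.H.map ((SheafOfModules.toSheaf X.ringCatSheaf).map
      ((L (ClSub.idealMod Z)).map (cokernel.π φ))) q y = x := by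
    refine (δH_eq_zero_iff (shortExact_toAb hT) q x).1 ?_
    rcases Nat.eq_zero_or_pos q with rfl | hq
    swap
    · exact @Subsingleton.elim _ (hIA q hq) _ _
    obtain ⟨a, ha⟩ := (map_f_eq_zero_iff (shortExact_toAb hcA) 0 (δH (shortExact_toAb hT) 0 x)).1
      (@Subsingleton.elim _ (hA 1) _ _)
    have h0 : δH (shortExact_toAb hcB) 0 (Sheaf.H.map θ.τ₃ 0 a) = 0 := by
      rw [hδ, ha]
      exact (map_f_eq_zero_iff (shortExact_toAb hT) 0 _).2 ⟨x, rfl⟩
    obtain ⟨b, hb⟩ := (δH_eq_zero_iff (shortExact_toAb hcB) 0 _).1 h0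
    have h1 := congrArg (g0 (CohB1.tensorMod (ClSub.quotMod Z) B)) hb
    rw [show g0 (CohB1.tensorMod (ClSub.quotMod Z) B) (Sheaf.H.map ((col Z B).map (toAbF X)).g 0 b) =
      (resE Z B).app ⊤ (g0 B b) from g0_map _ b,
      show g0 (CohB1.tensorMod (ClSub.quotMod Z) B) (Sheaf.H.map θ.τ₃ 0 a) =
        (qMap Z φ).app ⊤ (g0 _ a) from g0_map _ a] at h1
    obtain ⟨ha0, -⟩ := hinj (g0 _ a) (-(g0 B b)) (by rw [map_neg, h1, add_neg_cancel])
    rw [← ha, (g0 _).injective (ha0.trans (map_zero _).symm), map_zero]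
  rcases Nat.lt_or_ge q 2 with hq | hq
  swap
  · rw [← hy, @Subsingleton.elim _ (by obtain ⟨n, rfl⟩ : ∃ n, q = n + 1 := ⟨q - 1, by omega⟩; exact hIB n (by omega)) y 0,
      map_zero]
  obtain rfl | rfl : q = 0 ∨ q = 1 := by omega
  · rw [← hy]
    suffices hy0 : y = 0 by rw [hy0, map_zero]
    refine (g0 _).injective ((QC.app_injective_of_mono (incE Z B) ⊤ ?_).trans (map_zero _).symm)
    rw [map_zero]
    refine (hinj 0 ((incE Z B).app ⊤ (g0 _ y)) ?_).2
    rw [map_zero, zero_add, ← ConcreteCategory.comp_apply, ← Scheme.Modules.Hom.comp_app, inc_res]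
    rfl
  · obtain ⟨c, hc⟩ := (map_f_eq_zero_iff (shortExact_toAb hcB) 0 y).1 (@Subsingleton.elim _ (hB 1 le_rfl) _ _)
    obtain ⟨a, b, hab⟩ := hsurj (g0 _ c)
    let u : Coh.HH X (CohB1.tensorMod (ClSub.quotMod Z) B) 0 := Sheaf.H.map θ.τ₃ 0 ((g0 _).symm a)
    let v : Coh.HH X (CohB1.tensorMod (ClSub.quotMod Z) B) 0 :=
      Sheaf.H.map ((col Z B).map (toAbF X)).g 0 ((g0 B).symm b)
    have hc' : c = u + v := by
      refine (g0 (CohB1.tensorMod (ClSub.quotMod Z) B)).injective ?_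
      rw [map_add]
      refine hab.symm.trans (congrArg₂ (· + ·) ?_ ?_)
      · exact ((g0_map _ _).trans (congrArg _ (AddEquiv.apply_symm_apply _ _))).symm
      · exact ((g0_map _ _).trans (congrArg _ (AddEquiv.apply_symm_apply _ _))).symm
    have hb0 : δH (shortExact_toAb hcB) 0 v = 0 :=
      (δH_eq_zero_iff (shortExact_toAb hcB) 0 _).2 ⟨_, rfl⟩
    have hu : δH (shortExact_toAb hcB) 0 u = Sheaf.H.map θ.τ₁ 1 (δH (shortExact_toAb hcA) 0 ((g0 _).symm a)) := hδ 0 _
    rw [← hy, ← hc, hc', map_add, hb0, add_zero, hu]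
    exact (map_g_eq_zero_iff (shortExact_toAb hT) 1 _).2 ⟨_, rfl⟩

end Groth.Agent.GaetaGen.Vanish
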