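import Groth.Agent.GaetaGen.Points
import Groth.Agent.GaetaGen.Vanish
import Groth.Agent.PBundle.FrameTools
import Groth.Agent.SuppZero.Basic

/-!
Cohomology of the general cokernel twisted by the ideal of collinear points.
-/

set_option autoImplicit false
set_option linter.unusedSectionVars false
set_option linter.style.haveILetI false
set_option backward.isDefEq.respectTransparency false
set_option maxHeartbeats 1000000

universe u

open CategoryTheory CategoryTheory.Limits AlgebraicGeometry MvPolynomial TopologicalSpace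
open Groth.Agent.QC (res resO app_res res_self res_smul)
open Groth.Agent.RegPow (S D dh gen isAffine_D X_mem)
open Groth.Agent.GaetaRes (Tw)
open Groth.Agent.DetReg (pr)
open Groth.Agent.GaetaGen.Vanish (incE resE qMap)

noncomputable section

namespace Groth.Agent.GaetaGen

variable {k : Type u} [Field k] {a a₂ a₃ ℓ : ℕ}

/-- The chart containing the points. -/
abbrev U0 (k : Type u) [Field k] : (P2 k).Opens := D (k := k) (0 : Fin 3)

section Geometry

lemma hasFrames_of_frames {E : (P2 k).Modules} (hE : Coh.IsQCoh E) {β : Type} [Fintype β]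
    (g : ∀ c, β → Γ(E, D (k := k) c)) (hg : ∀ c, IsFrame (g c)) : CurveRR.HasFrames E := by
  intro U x hx
  obtain ⟨c, hc⟩ := Groth.Agent.RegPow.exists_D (k := k) x
  let e := Fintype.equivFin β
  have hb : Function.Bijective fun u : Fin (Fintype.card β) → Γ(P2 k, D (k := k) c) => ∑ i, u i • g c (e.symm i) := by
    have h := (frame_sum (hg c)).comp (e.arrowCongr (Equiv.refl Γ(P2 k, D (k := k) c))).symm.bijective
    refine (congrArg Function.Bijective (funext fun u => ?_)).mp h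
    exact Fintype.sum_equiv e _ _ fun i => by simp
  have hf := PBundle.isFrame_of_bijective hE (isAffine_D c) hb
  refine ⟨U ⊓ D c, inf_le_left, _, fun i => res E inf_le_right (g c (e.symm i)), ⟨hx, hc⟩, fun y hy => ?_⟩
  simpa only [WeakAssLib.mgerm_res] using hf y hy.2

lemma framesA : CurveRR.HasFrames (AA k a) := hasFrames_of_frames isCohA.1 _ frameA

lemma framesB : CurveRR.HasFrames (BB k a₂ a₃) := hasFrames_of_frames isCohB.1 _ frameB

lemma hh_A (q : ℕ) : Subsingleton (Coh.HH (P2 k) (AA k a) q) :=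
  (GaetaRes.van_zero_iff _ q).1 (GaetaRes.van_sigma (-2) 0 q (by omega) (by omega))

lemma hh_B (q : ℕ) (hq : 1 ≤ q) : Subsingleton (Coh.HH (P2 k) (BB k a₂ a₃) q) := by
  refine (GaetaRes.van_zero_iff _ q).1 (GaetaRes.van_biprod (GaetaRes.van_sigma (-1) 0 q (by omega) (by omega))
    ((GaetaRes.van_zero_iff _ q).2 ?_))
  refine CohFinite.subsingleton_of_split _ (fun _ : Fin a₃ => Coh.structureModule (CohB1.ProjSpace 2 k))
    (fun j => Sigma.ι (fun _ : Fin a₃ => Coh.structureModule (CohB1.ProjSpace 2 k)) j) (fun j => pr _ j) (DetReg.total _) q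
    fun _ => ?_
  exact CohQC.hh_subsingleton_of_iso psi0.symm _ ((GaetaRes.van_zero_iff _ q).1 (GaetaRes.van_tw 0 0 q (by omega) (by omega)))

variable (t : Fin ℓ → k)

lemma ptSet_sub : (ptSet t : Set (P2 k)) ⊆ ((U0 k) : Set (P2 k)) := by
  rintro _ ⟨j, rfl⟩
  exact pt_mem (t j)

lemma isClosed_sub {S : Set (P2 k)} (hS : S ⊆ (ptSet t : Set (P2 k))) : IsClosed S := by
  rw [← Set.biUnion_of_singleton S]
  refine ((Set.finite_range fun j => pt (t j)).subset hS).isClosed_biUnion fun x hx => ?_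
  obtain ⟨j, rfl⟩ := hS hx
  exact isClosed_pt (t j)

lemma suppIn_Q (E : (P2 k).Modules) :
    CurveRR.SuppIn (CohB1.tensorMod (ClSub.quotMod (ptIdeal t)) E) (ptSet t : Set (P2 k)) :=
  CurveRR.suppIn_tensor (CurveRR.suppIn_of_subset
    ((CurveRR.support_quotMod (ptIdeal t)).trans (support_ptIdeal t).subset)) E

lemma support_Q (E : (P2 k).Modules) :
    CohB1.support (CohB1.tensorMod (ClSub.quotMod (ptIdeal t)) E) ⊆ (ptSet t : Set (P2 k)) := fun x hx => by
  by_contra hxS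
  refine (QC.notMem_support_iff x).2 (fun W hxW s => ⟨W ⊓ ⟨(ptSet t : Set (P2 k))ᶜ, (ptSet t).isClosed.isOpen_compl⟩,
    inf_le_left, ⟨hxW, hxS⟩, suppIn_Q t E _ _ fun y hy => hy.2⟩) hx

lemma hh_Q (E : (P2 k).Modules) (q : ℕ) (hq : 1 ≤ q) :
    Subsingleton (Coh.HH (P2 k) (CohB1.tensorMod (ClSub.quotMod (ptIdeal t)) E) q) := by
  haveI : NoetherianSpace (P2 k) := Horrocks.isNoetherian_space
  haveI : Finite ↥(ptSet t : Set (P2 k)) := (Set.finite_range fun j => pt (t j)).to_subtype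
  haveI : DiscreteTopology ↥(ptSet t : Set (P2 k)) := discreteTopology_iff_forall_isClosed.mpr fun s => by
    have h := (isClosed_sub t (S := Subtype.val '' s) (by rintro _ ⟨y, -, rfl⟩; exact y.2)).preimage (continuous_subtype_val : Continuous (Subtype.val : ↥(ptSet t : Set (P2 k)) → P2 k))
    rwa [Set.preimage_image_eq _ Subtype.val_injective] at h
  have hdim : topologicalKrullDim ↥(ptSet t : Set (P2 k)) ≤ 0 := by
    rcases isEmpty_or_nonempty ↥(ptSet t : Set (P2 k)) with he | he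
    · haveI := he
      haveI : IsEmpty (IrreducibleCloseds ↥(ptSet t : Set (P2 k))) :=
        ⟨fun Z => he.false Z.isIrreducible'.nonempty.some⟩
      simp [topologicalKrullDim, Order.krullDim_eq_bot]
    · exact topologicalKrullDim_zero_of_discreteTopology _
  exact SuppZero.subsingleton_hh_of_supported (ptSet t).isClosed hdim _
    (fun x hx h => hx (support_Q t E h)) q hq

lemma resQ_injective (E : (P2 k).Modules) :
    Function.Injective (res (CohB1.tensorMod (ClSub.quotMod (ptIdeal t)) E) (le_top : (U0 k) ≤ ⊤)) := by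
  rw [injective_iff_map_eq_zero]
  intro s hs
  refine QC.section_eq_of_locally fun x _ => ?_
  by_cases hx : x ∈ (ptSet t : Set (P2 k))
  · exact ⟨(U0 k), le_top, ptSet_sub t hx, hs.trans (map_zero _).symm⟩
  · exact ⟨⟨(ptSet t : Set (P2 k))ᶜ, (ptSet t).isClosed.isOpen_compl⟩, le_top, hx,
      (suppIn_Q t E _ _ fun y hy => hy).trans (map_zero _).symm⟩

lemma resQ_surjective (E : (P2 k).Modules) :
    Function.Surjective (res (CohB1.tensorMod (ClSub.quotMod (ptIdeal t)) E) (le_top : (U0 k) ≤ ⊤)) :=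
  fun s => SuppZero.exists_extend_global _ (fun T hT => isClosed_sub t (hT.trans (support_Q t E))) _ s

lemma resE_surjective {E : (P2 k).Modules} (hE : CurveRR.HasFrames E) (hcE : Coh.IsCoh E) :
    Function.Surjective ((resE (ptIdeal t) E).app (U0 k)) := by
  haveI : IsNoetherian (CohB1.ProjSpace 2 k) := CohFinite.isNoetherian_projSpace 2 k
  haveI : IsNoetherian (P2 k) := inferInstanceAs (IsNoetherian (CohB1.ProjSpace 2 k))
  haveI := (Vanish.col_shortExact (ptIdeal t) hE).epi_g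
  refine QC.app_surjective_of_epi (isAffine_D 0) hcE.1 ?_ _
  refine (CurveRR.isCoh_tensor' ?_ hcE).1
  haveI := (CurveRR.ideal_shortExact (ptIdeal t)).epi_g
  refine QC.isCoh_of_epi (Devissage.isCoh_unit _) ?_ (ClSub.toSubscheme (ptIdeal t))
  haveI : (Coh.structureModule (ptIdeal t).subscheme).IsQuasicoherent := QC.isQCoh_unit _
  exact QC.isQCoh_pushforward (ptIdeal t).subschemeι

variable {E : (P2 k).Modules} {β : Type} [Fintype β] {g : β → Γ(E, (U0 k))}

lemma resE_eq_zero_iff (hE : CurveRR.HasFrames E) (hg : IsFrame g) (c : β → Γ(P2 k, (U0 k))) :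
    (resE (ptIdeal t) E).app (U0 k) (∑ i, c i • g i) = 0 ↔ ∀ j i, evPt (t j) (c i) = 0 := by
  classical
  constructor
  · intro h j i
    obtain ⟨s, hs⟩ := SiteCoh.sections_exact (CohFinite.shortExact_toAb (Vanish.col_shortExact (ptIdeal t) hE)) (U0 k) _ h
    obtain ⟨V, hV, p, hxV, hp⟩ := TMul.exists_tt s (pt_mem (t j))
    let K : Submodule Γ(P2 k, V) Γ(E, V) := Submodule.span Γ(P2 k, V)
      {m | ∃ (f : Γ(P2 k, V)) (e : Γ(E, V)), pt (t j) ∉ (P2 k).basicOpen f ∧ m = f • e}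
    have hres : res E hV (∑ i, c i • g i) ∈ K := by
      rw [show (∑ i, c i • g i) = (incE (ptIdeal t) E).app (U0 k) s from hs.symm, app_res, ← hp]
      clear hp
      induction p using TensorProduct.induction_on with
      | zero => rw [map_zero, map_zero]; exact zero_mem _
      | tmul x e =>
        rw [TMul.tt_tmul, Vanish.inc_app_tm]
        refine Submodule.subset_span ⟨_, e, fun hb => ?_, rfl⟩
        obtain ⟨W, hW, hxW, hWV⟩ := exists_isAffineOpen_mem_and_subset (show pt (t j) ∈ V from hxV)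
        have hmem : resO (P2 k) hWV ((ClSub.idealModι (ptIdeal t)).app V x) ∈ (ptIdeal t).ideal ⟨W, hW⟩ :=
          (QC.mem_range_idealModι_affine _ ⟨W, hW⟩ _).1 ⟨res _ hWV x, (app_res _ hWV x).symm⟩
        have hsupp : pt (t j) ∈ (ptIdeal t).support := by
          rw [← SetLike.mem_coe, support_ptIdeal]
          exact ⟨j, rfl⟩
        have hz : pt (t j) ∈ (P2 k).zeroLocus (U := W) ((ptIdeal t).ideal ⟨W, hW⟩) :=
          ((Set.ext_iff.1 ((ptIdeal t).coe_support_inter ⟨W, hW⟩) _).1 ⟨hsupp, hxW⟩).1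
        refine (Scheme.mem_zeroLocus_iff _ _ _).1 hz _ hmem ?_
        rw [show (P2 k).basicOpen (resO (P2 k) hWV ((ClSub.idealModι (ptIdeal t)).app V x)) = _ from
          Scheme.basicOpen_res (P2 k) _ (homOfLE hWV).op]
        exact ⟨hxW, hb⟩
      | add x y hx hy => rw [map_add, map_add]; exact add_mem hx hy
    have key : ∀ m ∈ K, ∃ d : β → Γ(P2 k, V), (∀ i, pt (t j) ∉ (P2 k).basicOpen (d i)) ∧
        ∑ i, d i • res E hV (g i) = m := by
      intro m hm
      induction hm using Submodule.span_induction with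
      | mem m hm =>
        obtain ⟨f, e, hf, rfl⟩ := hm
        obtain ⟨d, hd⟩ := (hg V hV).2 e
        refine ⟨fun i => f * d i, fun i hb => hf ?_, ?_⟩
        · rw [Scheme.basicOpen_mul] at hb
          exact hb.1
        · simp only [mul_smul, ← Finset.smul_sum]
          exact congrArg (f • ·) hd
      | zero => exact ⟨0, fun i => by simp [Scheme.basicOpen_zero], by simp⟩
      | add m m' _ _ hm hm' =>
        obtain ⟨d, hd, rfl⟩ := hm
        obtain ⟨d', hd', rfl⟩ := hm'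
        refine ⟨d + d', fun i hb => ?_, by simp [add_smul, Finset.sum_add_distrib]⟩
        rcases ((P2 k).basicOpen_add_le (d i) (d' i) hb : pt (t j) ∈ _ ⊔ _) with h | h
        exacts [hd i h, hd' i h]
      | smul r m _ hm =>
        obtain ⟨d, hd, rfl⟩ := hm
        refine ⟨fun i => r * d i, fun i hb => ?_, by simp [mul_smul, Finset.smul_sum]⟩
        rw [Scheme.basicOpen_mul] at hb
        exact hd i hb.2
    obtain ⟨d, hd, hdm⟩ := key _ hres
    have hdc : d = fun i => resO (P2 k) hV (c i) := (hg V hV).1 (by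
      show ∑ i, d i • res E hV (g i) = ∑ i, resO (P2 k) hV (c i) • res E hV (g i)
      rw [hdm, map_sum]
      exact Finset.sum_congr rfl fun i _ => res_smul _ _ _ _)
    by_contra hne
    refine hd i ?_
    rw [hdc]
    show pt (t j) ∈ (P2 k).basicOpen (resO (P2 k) hV (c i))
    rw [show (P2 k).basicOpen (resO (P2 k) hV (c i)) = _ from Scheme.basicOpen_res (P2 k) _ (homOfLE hV).op]
    exact ⟨hxV, (mem_basicOpen_pt (t j) (c i)).2 hne⟩
  · intro h
    choose x hx using fun i => (QC.mem_range_idealModι_affine (ptIdeal t) ⟨(U0 k), isAffine_D 0⟩ (c i)).2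
      ((mem_ideal_iff t (c i)).2 fun j => h j i)
    have : ∑ i, c i • g i = (incE (ptIdeal t) E).app (U0 k) (∑ i, TMul.tm (x i) (g i)) := by
      rw [map_sum]
      exact Finset.sum_congr rfl fun i _ => by rw [Vanish.inc_app_tm]; exact congrArg (· • g i) (hx i).symm
    rw [this, ← ConcreteCategory.comp_apply, ← Scheme.Modules.Hom.comp_app, Vanish.inc_res]
    rfl

end Geometry

section GlobalB

lemma toGlobal_res (c : k) : resO (P2 k) (le_top : (U0 k) ≤ ⊤)
    (Coh.toGlobal (P2 k ↘ Spec (CommRingCat.of k)) c) = dh 0 (MvPolynomial.C c) :=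
  ProjMor.res_toGlobal_base (CohB1.polyGrading 2 k) (X_mem (0 : Fin 3)) c

/-- Constants as global functions. -/
def gconst (c : k) : Γ(P2 k, ⊤) := Coh.toGlobal (P2 k ↘ Spec (CommRingCat.of k)) c

lemma gconst_zero : gconst (0 : k) = (0 : Γ(P2 k, ⊤)) := map_zero (Coh.toGlobal (P2 k ↘ Spec (CommRingCat.of k)))

lemma exists_const (y : Γ(P2 k, ⊤)) : ∃ c : k, y = gconst c := by
  obtain ⟨c, hc⟩ := GaetaRes.exists_scalar (k := k) (n := 2) (by norm_num) 0
    (psi0.inv ≫ GrT.homOfSection (Coh.structureModule (CohB1.ProjSpace 2 k)) y ≫ psi0.hom)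
  refine ⟨c, ?_⟩
  have h1 : GrT.homOfSection (Coh.structureModule (CohB1.ProjSpace 2 k)) y = c • 𝟙 _ := by
    have h2 := congrArg (fun f : Tw k 2 0 ⟶ Tw k 2 0 => psi0.hom ≫ f ≫ psi0.inv) hc
    simpa only [Category.assoc, Iso.hom_inv_id_assoc, Iso.hom_inv_id, Category.comp_id, Linear.comp_smul,
      Linear.smul_comp, Category.id_comp] using h2
  have h2 := congrArg (fun f : Coh.structureModule (CohB1.ProjSpace 2 k) ⟶ Coh.structureModule (CohB1.ProjSpace 2 k) =>
    f.app ⊤ (1 : Γ(P2 k, ⊤))) h1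
  rw [GrT.homOfSection_app, one_smul, res_self, KLin.smul_app_apply] at h2
  refine h2.trans ?_
  show resO (P2 k) (le_top : (⊤ : (P2 k).Opens) ≤ ⊤) (Coh.toGlobal (P2 k ↘ Spec (CommRingCat.of k)) c) * (1 : Γ(P2 k, ⊤)) = _
  rw [mul_one]
  exact QC.resO_self le_rfl _

/-- The constant sections of `B`. -/
def σB (p : Fin a₃) : Γ(BB k a₂ a₃, ⊤) :=
  (Sigma.ι (fun _ : Fin a₃ => Coh.structureModule (CohB1.ProjSpace 2 k)) p ≫
    (biprod.inr : S₂ k a₃ ⟶ BB k a₂ a₃)).app ⊤ (show Γ(P2 k, ⊤) from 1)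

lemma psi0_gen : psi0.inv.app (U0 k) (gen (k := k) 0 (0 : Fin 3)) = (1 : Γ(P2 k, (U0 k))) := by
  have h : gen (k := k) 0 (0 : Fin 3) = (psi0 (k := k)).hom.app (U0 k) (1 : Γ(P2 k, (U0 k))) := by
    refine GrT.pt_ext _ _ fun y => ?_
    refine Eq.trans ?_ (Groth.Agent.RegPow.pt_psi (1 : Γ(P2 k, (U0 k))) y).symm
    rw [GrT.pO_one]
    change Localization.mk ((X (0 : Fin 3) : S k 2) ^ Int.toNat 0) ⟨(X (0 : Fin 3) : S k 2) ^ (-(0 : ℤ)).toNat, _⟩ = (1 : Twist.Loc (CohB1.polyGrading 2 k) y.1)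
    rw [← Localization.mk_one, Localization.mk_eq_mk_iff, Localization.r_iff_exists]
    exact ⟨1, by simp⟩
  rw [h]
  exact congrArg (fun f : Coh.structureModule (CohB1.ProjSpace 2 k) ⟶ Coh.structureModule (CohB1.ProjSpace 2 k) =>
    f.app (U0 k) (1 : Γ(P2 k, (U0 k)))) psi0.hom_inv_id

lemma σB_res (p : Fin a₃) : res (BB k a₂ a₃) (le_top : (U0 k) ≤ ⊤) (σB p) = fB (0 : Fin 3) (Sum.inr p) := by
  rw [σB, app_res]
  refine Eq.trans ?_ (congrArg ((Sigma.ι (fun _ : Fin a₃ => Coh.structureModule (CohB1.ProjSpace 2 k)) p ≫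
    (biprod.inr : S₂ k a₃ ⟶ BB k a₂ a₃)).app (U0 k)) psi0_gen).symm
  exact congrArg _ (map_one ((P2 k).presheaf.map (homOfLE (le_top : U0 k ≤ ⊤)).op).hom)

lemma exists_coordsB (b : Γ(BB k a₂ a₃, ⊤)) :
    ∃ β : Fin a₃ → k, b = ∑ p, gconst (β p) • σB p := by
  choose β hβ using fun p : Fin a₃ => exists_const
    (((biprod.snd : BB k a₂ a₃ ⟶ S₂ k a₃) ≫ pr _ p).app ⊤ b)
  refine ⟨β, ?_⟩
  conv_lhs => rw [show b = DetReg.evalApp b (𝟙 (BB k a₂ a₃)) from rfl, ← totB, Fintype.sum_sum_type, map_add, map_sum,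
    map_sum]
  haveI : Subsingleton (Coh.HH (P2 k) (Tw k 2 (-1)) 0) :=
    (GaetaRes.van_zero_iff _ 0).1 (GaetaRes.van_tw (-1) 0 0 (by omega) (by omega))
  haveI : Subsingleton Γ(Tw k 2 (-1), ⊤) := (Vanish.g0 (Tw k 2 (-1))).symm.toEquiv.subsingleton
  have h0 : ∑ j : Fin a₂, DetReg.evalApp b (pB (k := k) (a₃ := a₃) (Sum.inl j) ≫ ιB (Sum.inl j)) = 0 := by
    refine Finset.sum_eq_zero fun j _ => ?_
    show (ιB (Sum.inl j)).app ⊤ ((pB (Sum.inl j)).app ⊤ b) = 0
    rw [show (pB (k := k) (a₃ := a₃) (Sum.inl j)).app ⊤ b = 0 from @Subsingleton.elim Γ(Tw k 2 (-1), ⊤) _ _ _]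
    exact map_zero _
  rw [h0, zero_add]
  refine Finset.sum_congr rfl fun p _ => ?_
  show (ιB (Sum.inr p)).app ⊤ ((pB (Sum.inr p)).app ⊤ b) = _
  have hy : psi0.inv.app ⊤ ((pB (k := k) (a₂ := a₂) (Sum.inr p)).app ⊤ b) =
      ((biprod.snd : BB k a₂ a₃ ⟶ S₂ k a₃) ≫ pr _ p).app ⊤ b :=
    congrArg (fun f : Coh.structureModule (CohB1.ProjSpace 2 k) ⟶ Coh.structureModule (CohB1.ProjSpace 2 k) =>
      f.app ⊤ (((biprod.snd : BB k a₂ a₃ ⟶ S₂ k a₃) ≫ pr _ p).app ⊤ b)) psi0.hom_inv_id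
  show (Sigma.ι (fun _ : Fin a₃ => Coh.structureModule (CohB1.ProjSpace 2 k)) p ≫
    (biprod.inr : S₂ k a₃ ⟶ BB k a₂ a₃)).app ⊤ (psi0.inv.app ⊤ ((pB (Sum.inr p)).app ⊤ b)) = _
  rw [hy, hβ p, σB, ← Scheme.Modules.Hom.app_smul]
  exact congrArg _ (mul_one _).symm

/-- Coordinates of constant sections. -/
def bco (β : Fin a₃ → k) : Fin a₂ ⊕ Fin a₃ → Γ(P2 k, U0 k) :=
  Sum.elim (fun _ => 0) (fun p => dh (0 : Fin 3) (MvPolynomial.C (β p)))

lemma sumσ_res (β : Fin a₃ → k) : res (BB k a₂ a₃) (le_top : (U0 k) ≤ ⊤)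
      (∑ p, gconst (β p) • σB p) =
    ∑ i, bco β i • fB (0 : Fin 3) i := by
  rw [map_sum, Fintype.sum_sum_type]
  simp only [bco, Sum.elim_inl, Sum.elim_inr]
  rw [Finset.sum_eq_zero (s := (Finset.univ : Finset (Fin a₂))) fun j _ => zero_smul _ _, zero_add]
  exact Finset.sum_congr rfl fun p _ => by rw [res_smul, σB_res, gconst, toGlobal_res]

end GlobalB

section Matrix

variable (t : Fin ℓ → k) (φ : AA k a ⟶ BB k a₂ a₃)

/-- The comparison system at the points. -/
def sys (u : Fin ℓ → Fin a → k) (b : Fin a₃ → k) (j : Fin ℓ) (i : Fin a₂ ⊕ Fin a₃) : k :=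
  ∑ q, MvPolynomial.eval (coordPt (t j)) (Lmat k a a₂ a₃ i q φ) * u j q + Sum.elim (fun _ => 0) b i

/-- Vanishing of `H^*(I ⊗ coker φ)`. -/
theorem vanish (ht : Function.Injective t) [Mono φ]
    (hinj : ∀ u b, (∀ j i, sys t φ u b j i = 0) → u = 0 ∧ b = 0)
    (hsurj : ∀ w : Fin ℓ → Fin a₂ ⊕ Fin a₃ → k, ∃ u b, ∀ j i, sys t φ u b j i = w j i) (q : ℕ) :
    Subsingleton (Coh.HH (P2 k) (CohB1.tensorMod (ClSub.idealMod (ptIdeal t)) (cokernel φ)) q) := by
  have hcomm : ∀ (α : Fin a → Γ(P2 k, (U0 k))) (β : Fin a₃ → k),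
      (qMap (ptIdeal t) φ).app (U0 k) ((resE (ptIdeal t) (AA k a)).app (U0 k) (∑ q, α q • fA 0 q)) +
        (resE (ptIdeal t) (BB k a₂ a₃)).app (U0 k) (∑ i, bco β i • fB 0 i) =
      (resE (ptIdeal t) (BB k a₂ a₃)).app (U0 k) (∑ i, ((∑ q, chartMat φ 0 i q * α q) +
        bco β i) • fB 0 i) := by
    intro α β
    have h := congrArg (fun f : AA k a ⟶ CohB1.tensorMod (ClSub.quotMod (ptIdeal t)) (BB k a₂ a₃) =>
      f.app (U0 k) (∑ q, α q • fA 0 q)) (Vanish.res_nat (ptIdeal t) φ)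
    rw [show (qMap (ptIdeal t) φ).app (U0 k) ((resE (ptIdeal t) (AA k a)).app (U0 k) (∑ q, α q • fA 0 q)) =
      (resE (ptIdeal t) (BB k a₂ a₃)).app (U0 k) (φ.app (U0 k) (∑ q, α q • fA 0 q)) from h.symm, (hasMat φ 0).app_sum,
      ← map_add, ← Finset.sum_add_distrib]
    simp only [add_smul]
  have hev : ∀ (α : Fin a → Γ(P2 k, (U0 k))) (β : Fin a₃ → k) j i,
      evPt (t j) ((∑ q, chartMat φ 0 i q * α q) + bco β i) =
        sys t φ (fun j q => evPt (t j) (α q)) β j i := by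
    intro α β j i
    rw [map_add, map_sum, sys]
    refine congrArg₂ (· + ·) (Finset.sum_congr rfl fun q _ => ?_) ?_
    · rw [map_mul, chartMat, evPt_dh]
    · rcases i with i | i
      · exact map_zero _
      · simp only [bco, Sum.elim_inr]
        rw [evPt_dh, eval_C]
  refine Vanish.main (ptIdeal t) φ framesA framesB hh_A hh_B (hh_Q t _) (hh_Q t _) (fun x b h => ?_) (fun c => ?_) q
  · obtain ⟨s, hs⟩ := resE_surjective t (framesA (k := k) (a := a)) isCohA (res _ (le_top : (U0 k) ≤ ⊤) x)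
    obtain ⟨α, rfl⟩ := (frame_sum (frameA 0)).2 s
    obtain ⟨β, rfl⟩ := exists_coordsB b
    have h' := congrArg (res (CohB1.tensorMod (ClSub.quotMod (ptIdeal t)) (BB k a₂ a₃)) (le_top : (U0 k) ≤ ⊤)) h
    rw [map_add, map_zero, app_res, app_res, sumσ_res, ← hs, hcomm, resE_eq_zero_iff t framesB (frameB 0)] at h'
    simp only [hev] at h'
    obtain ⟨hu, rfl⟩ := hinj _ _ h'
    refine ⟨resQ_injective t _ ?_, Finset.sum_eq_zero fun p _ => ?_⟩
    · rw [map_zero, ← hs]
      exact (resE_eq_zero_iff t framesA (frameA 0) α).2 fun j q => congrFun (congrFun hu j) q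
    · rw [Pi.zero_apply, gconst_zero, zero_smul]
  · obtain ⟨s, hs⟩ := resE_surjective t (framesB (k := k) (a₂ := a₂) (a₃ := a₃)) isCohB (res _ (le_top : (U0 k) ≤ ⊤) c)
    obtain ⟨γ, rfl⟩ := (frame_sum (frameB 0)).2 s
    obtain ⟨u, β, hub⟩ := hsurj fun j i => evPt (t j) (γ i)
    choose α hα using fun q => exists_interp t ht fun j => u j q
    obtain ⟨x, hx⟩ := resQ_surjective t _ ((resE (ptIdeal t) (AA k a)).app (U0 k) (∑ q, α q • fA 0 q))
    refine ⟨x, ∑ p, gconst (β p) • σB p, resQ_injective t _ ?_⟩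
    rw [map_add, app_res, app_res, sumσ_res, hx, hcomm, ← hs, ← sub_eq_zero, ← map_sub, ← Finset.sum_sub_distrib]
    simp only [← sub_smul]
    refine (resE_eq_zero_iff t framesB (frameB 0) _).2 fun j i => ?_
    rw [map_sub, hev, show (fun j q => evPt (t j) (α q)) = u from funext fun j => funext fun q => hα q j, hub, sub_self]

end Matrix

end Groth.Agent.GaetaGen
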