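import Groth.Agent.GaetaGen.Interp
import Mathlib.LinearAlgebra.Matrix.ToLinearEquiv

/-!
General cokernels have no cohomology after twisting by the ideal of suitable points.
-/

set_option autoImplicit false
set_option linter.unusedSectionVars false
set_option linter.style.haveILetI false
set_option backward.isDefEq.respectTransparency false
set_option maxHeartbeats 1000000

universe u

open CategoryTheory CategoryTheory.Limits AlgebraicGeometry MvPolynomial
open Groth.Agent.RegPow (S X_mem)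

noncomputable section

namespace Groth.Agent.GaetaGen

variable {k : Type u} [Field k]

lemma band_pair_mem {ℓ : ℕ} (t : Fin ℓ → k) (c : Fin ℓ) :
    (X (0 : Fin 3) * (X (1 : Fin 3) - MvPolynomial.C (t c) * X (0 : Fin 3)) : S k 2) ∈ CohB1.polyGrading 2 k 2 := by
  show _ ∈ CohB1.polyGrading 2 k (1 + 1)
  refine SetLike.mul_mem_graded (X_mem 0) (sub_mem (X_mem 1) ?_)
  rw [← MvPolynomial.smul_eq_C_mul]
  exact Submodule.smul_mem _ _ (X_mem 0)

variable {a a₂ a₃ ℓ r : ℕ}

/-- The special morphism. -/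
theorem exists_special (e₁ : Fin a ≃ Fin a₂ ⊕ Fin r × Fin (ℓ - 1)) (e₃ : Fin a₃ ≃ Fin r × Fin ℓ) (t : Fin ℓ → k)
    (ht : Function.Injective t) :
    ∃ φ : AA k a ⟶ BB k a₂ a₃, ∀ u b, (∀ j i, sys t φ u b j i = 0) → u = 0 ∧ b = 0 := by
  classical
  let z : Fin a₂ ⊕ Fin a₃ → Fin a₂ ⊕ Fin r × Fin (ℓ - 1) → S k 2 := fun i q => match i, q with
    | .inl i, .inl i' => if i = i' then X (0 : Fin 3) else 0
    | .inr p, .inr q => if (e₃ p).1 = q.1 ∧ (((e₃ p).2 : ℕ) = q.2 ∨ ((e₃ p).2 : ℕ) = q.2 + 1) then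
        X (0 : Fin 3) * (X (1 : Fin 3) - MvPolynomial.C (t (e₃ p).2) * X (0 : Fin 3)) else 0
    | _, _ => 0
  obtain ⟨φ, hφ⟩ := exists_hom (k := k) (fun i q => z i (e₁ q)) fun i q => by
    rcases i with i | p <;> rcases e₁ q with i' | q <;> simp only [z]
    · split_ifs
      exacts [X_mem 0, zero_mem _]
    · exact zero_mem _
    · exact zero_mem _
    · split_ifs
      exacts [band_pair_mem t _, zero_mem _]
  refine ⟨φ, fun u b h => ?_⟩
  have hs : ∀ (j : Fin ℓ) (i : Fin a₂ ⊕ Fin a₃),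
      ∑ q, MvPolynomial.eval (coordPt (t j)) (z i q) * u j (e₁.symm q) + Sum.elim (fun _ => 0) b i = 0 := by
    intro j i
    have := h j i
    rw [sys] at this
    refine Eq.trans ?_ this
    congr 1
    exact (Fintype.sum_equiv e₁ _ _ fun q => by rw [hφ, Equiv.symm_apply_apply]).symm
  have hu₁ : ∀ j i', u j (e₁.symm (Sum.inl i')) = 0 := fun j i' => by
    have := hs j (Sum.inl i')
    rw [Fintype.sum_sum_type] at this
    simp [z, apply_ite, coordPt] at this
    exact this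
  let v : Fin ℓ → Fin r → ℕ → k := fun j m c =>
    if h : c < ℓ - 1 then u j (e₁.symm (Sum.inr (m, ⟨c, h⟩))) else 0
  have hrow : ∀ (j : Fin ℓ) (m : Fin r) (c : Fin ℓ),
      (t j - t c) * ((if (c : ℕ) = 0 then 0 else v j m ((c : ℕ) - 1)) + v j m c) + b (e₃.symm (m, c)) = 0 := by
    intro j m c
    have := hs j (Sum.inr (e₃.symm (m, c)))
    rw [Fintype.sum_sum_type, Finset.sum_eq_zero (s := (Finset.univ : Finset (Fin a₂))) (fun i _ => by simp [z]),
      zero_add, Fintype.sum_prod_type, Finset.sum_eq_single m] at this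
    · refine Eq.trans ?_ this
      simp only [Sum.elim_inr, z, Equiv.apply_symm_apply, true_and]
      congr 1
      have hterm : ∀ q : Fin (ℓ - 1), MvPolynomial.eval (coordPt (t j))
          (if (c : ℕ) = q ∨ (c : ℕ) = q + 1 then X (0 : Fin 3) * (X (1 : Fin 3) - MvPolynomial.C (t c) * X (0 : Fin 3)) else 0) *
            u j (e₁.symm (Sum.inr (m, q))) =
          (t j - t c) * ((if (c : ℕ) = q then v j m q else 0) + if (c : ℕ) = q + 1 then v j m q else 0) := fun q => by
        have hv : v j m q = u j (e₁.symm (Sum.inr (m, q))) := dif_pos q.2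
        rcases em ((c : ℕ) = q) with h1 | h1 <;> rcases em ((c : ℕ) = q + 1) with h2 | h2
        · omega
        · rw [if_pos (Or.inl h1), if_pos h1, if_neg h2, hv]
          simp [coordPt]
        · rw [if_pos (Or.inr h2), if_neg h1, if_pos h2, hv]
          simp [coordPt]
        · rw [if_neg (by tauto), if_neg h1, if_neg h2]
          simp
      rw [Finset.sum_congr rfl fun q _ => hterm q, ← Finset.mul_sum, Finset.sum_add_distrib, add_comm (∑ q, _)]
      congr 2
      · by_cases hc : (c : ℕ) = 0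
        · rw [if_pos hc, Finset.sum_eq_zero fun q _ => if_neg (by omega)]
        · rw [if_neg hc, Finset.sum_eq_single (⟨(c : ℕ) - 1, by omega⟩ : Fin (ℓ - 1))]
          · rw [if_pos (by simp; omega)]
          · intro q _ hq
            exact if_neg fun hqc => hq (Fin.ext (by simp; omega))
          · exact fun hn => absurd (Finset.mem_univ _) hn
      · by_cases hc : (c : ℕ) < ℓ - 1
        · rw [Finset.sum_eq_single (⟨(c : ℕ), hc⟩ : Fin (ℓ - 1))]
          · rw [if_pos rfl]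
          · intro q _ hq
            exact if_neg fun hqc => hq (Fin.ext hqc.symm)
          · exact fun hn => absurd (Finset.mem_univ _) hn
        · rw [Finset.sum_eq_zero fun q _ => if_neg (by omega)]
          exact dif_neg hc
    · intro m' _ hm
      exact Finset.sum_eq_zero fun q _ => by simp [z, Ne.symm hm]
    · exact fun hn => absurd (Finset.mem_univ _) hn
  have hb : ∀ m j, b (e₃.symm (m, j)) = 0 := fun m j => by simpa using hrow j m j
  have hv : ∀ (j : Fin ℓ) m (c : Fin ℓ), c ≠ j →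
      (if (c : ℕ) = 0 then 0 else v j m ((c : ℕ) - 1)) + v j m c = 0 := fun j m c hc => by
    have := hrow j m c
    rw [hb, add_zero] at this
    exact (mul_eq_zero.1 this).resolve_left (sub_ne_zero.2 fun e => hc (ht e).symm)
  have hvz : ∀ j m c, v j m c = 0 := by
    intro j m c
    rcases Nat.lt_or_ge c j with hlt | hge
    · induction c with
      | zero =>
        have := hv j m ⟨0, by omega⟩ (fun e => by have := congrArg Fin.val e; simp at this; omega)
        simpa using this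
      | succ c ih =>
        have := hv j m ⟨c + 1, by omega⟩ (fun e => by have := congrArg Fin.val e; simp at this; omega)
        rw [if_neg (by simp), show ((⟨c + 1, by omega⟩ : Fin ℓ) : ℕ) - 1 = c from rfl, ih (by omega), zero_add] at this
        exact this
    · suffices H : ∀ d c : ℕ, (j : ℕ) ≤ c → ℓ - 1 ≤ c + d → v j m c = 0 from H (ℓ - 1) c hge (by omega)
      intro d
      induction d with
      | zero => exact fun c _ hc => dif_neg (by omega)
      | succ d ih =>
        intro c hjc hc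
        by_cases hcl : c < ℓ - 1
        · have := hv j m ⟨c + 1, by omega⟩ (fun e => by have := congrArg Fin.val e; simp at this; omega)
          rw [if_neg (by simp), show ((⟨c + 1, by omega⟩ : Fin ℓ) : ℕ) - 1 = c from rfl,
            ih (c + 1) (by omega) (by omega), add_zero] at this
          exact this
        · exact dif_neg hcl
  refine ⟨funext fun j => funext fun q => ?_, funext fun p => ?_⟩
  · rw [← e₁.symm_apply_apply q]
    rcases e₁ q with i' | ⟨m, c⟩
    · exact hu₁ j i'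
    · exact (dif_pos c.2).symm.trans (hvz j m c)
  · rw [← e₃.symm_apply_apply p]
    exact hb _ _

variable (k a a₂ a₃ ℓ) in
/-- Rows of the comparison. -/
abbrev RowI : Type := Fin ℓ × (Fin a₂ ⊕ Fin a₃)

variable (a a₃ ℓ) in
/-- Columns of the comparison. -/
abbrev ColI : Type := Fin ℓ × Fin a ⊕ Fin a₃

/-- The universal comparison matrix. -/
def Nuniv (t : Fin ℓ → k) (ρ : RowI a₂ a₃ ℓ) (κ : ColI a a₃ ℓ) : MvPolynomial (Fin (mm k a a₂ a₃)) k :=
  match κ with
  | .inl (j, q) => if ρ.1 = j then MvPolynomial.eval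
      (fun s => MvPolynomial.C (coordPt (t j) s)) (UM k a a₂ a₃ ρ.2 q) else 0
  | .inr p => if ρ.2 = Sum.inr p then 1 else 0

/-- The comparison matrix. -/
def Nmat (t : Fin ℓ → k) (φ : AA k a ⟶ BB k a₂ a₃) (ρ : RowI a₂ a₃ ℓ) (κ : ColI a a₃ ℓ) : k :=
  match κ with
  | .inl (j, q) => if ρ.1 = j then MvPolynomial.eval (coordPt (t j)) (Lmat k a a₂ a₃ ρ.2 q φ) else 0
  | .inr p => if ρ.2 = Sum.inr p then 1 else 0

lemma eval_Nuniv (t : Fin ℓ → k) (φ : AA k a ⟶ BB k a₂ a₃) (ρ : RowI a₂ a₃ ℓ) (κ : ColI a a₃ ℓ) :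
    MvPolynomial.eval (coord k a a₂ a₃ φ) (Nuniv t ρ κ) = Nmat t φ ρ κ := by
  rcases κ with ⟨j, q⟩ | p <;> simp only [Nuniv, Nmat]
  · split_ifs
    · have h1 := MvPolynomial.eval_map (MvPolynomial.eval (coord k a a₂ a₃ φ)) (coordPt (t j)) (UM k a a₂ a₃ ρ.2 q)
      rw [show MvPolynomial.map (MvPolynomial.eval (coord k a a₂ a₃ φ)) (UM k a a₂ a₃ ρ.2 q) =
        Lmat k a a₂ a₃ ρ.2 q ((coord k a a₂ a₃).symm (coord k a a₂ a₃ φ)) from
          ev_univ (coord k a a₂ a₃) (Lmat k a a₂ a₃ ρ.2 q) _, LinearEquiv.symm_apply_apply] at h1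
      rw [h1]
      have h2 := MvPolynomial.eval₂_comp_left (MvPolynomial.eval (coord k a a₂ a₃ φ)) (RingHom.id _)
        (fun s => MvPolynomial.C (coordPt (t j) s)) (UM k a a₂ a₃ ρ.2 q)
      rw [RingHom.comp_id] at h2
      rw [MvPolynomial.eval₂_id] at h2
      refine h2.trans ?_
      congr 1
      funext s
      exact MvPolynomial.eval_C _
    · exact map_zero _
  · split_ifs <;> simp

lemma mulVec_Nmat (t : Fin ℓ → k) (φ : AA k a ⟶ BB k a₂ a₃) (w : ColI a a₃ ℓ → k) (j : Fin ℓ)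
    (i : Fin a₂ ⊕ Fin a₃) : ∑ κ, Nmat t φ (j, i) κ * w κ =
      sys t φ (fun j q => w (Sum.inl (j, q))) (fun p => w (Sum.inr p)) j i := by
  rw [sys, Fintype.sum_sum_type]
  refine congrArg₂ (· + ·) ?_ ?_
  · rw [Fintype.sum_prod_type, Finset.sum_eq_single j]
    · exact Finset.sum_congr rfl fun q _ => by simp [Nmat]
    · intro j' _ hj
      exact Finset.sum_eq_zero fun q _ => by simp [Nmat, Ne.symm hj]
    · exact fun hn => absurd (Finset.mem_univ _) hn
  · rcases i with i | i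
    · exact Finset.sum_eq_zero fun p _ => by simp [Nmat]
    · rw [Finset.sum_eq_single i]
      · simp [Nmat]
      · intro p _ hp
        simp [Nmat, Ne.symm hp]
      · exact fun hn => absurd (Finset.mem_univ _) hn

/-- The main theorem. -/
theorem main_vanish [Infinite k] (hℓ : 1 ≤ ℓ) (h₃ : a₃ = ℓ * r) (h₁ : a = a₂ + (ℓ - 1) * r) :
    ∃ (m : ℕ) (c : (AA k a ⟶ BB k a₂ a₃) ≃ₗ[k] (Fin m → k)) (p : MvPolynomial (Fin m) k), p ≠ 0 ∧
      ∀ φ, MvPolynomial.eval (c φ) p ≠ 0 → Mono φ ∧ ∃ Z : (P2 k).IdealSheafData,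
        AlgebraicGeometry.IsReduced Z.subscheme ∧ Nat.card ↥Z.subscheme = ℓ ∧
        ∀ i : ℕ, Subsingleton (Coh.HH (P2 k) (CohB1.tensorMod (cokernel φ) (ClSub.idealMod Z)) i) := by
  classical
  let t : Fin ℓ → k := fun j => Infinite.natEmbedding k j
  have ht : Function.Injective t := fun i j h => Fin.ext ((Infinite.natEmbedding k).injective h)
  obtain ⟨n, rfl⟩ : ∃ n, ℓ = n + 1 := ⟨ℓ - 1, by omega⟩
  have e₁ : Fin a ≃ Fin a₂ ⊕ Fin r × Fin (n + 1 - 1) :=
    Fintype.equivOfCardEq (by simp [h₁]; ring)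
  have e₃ : Fin a₃ ≃ Fin r × Fin (n + 1) := Fintype.equivOfCardEq (by simp [h₃]; ring)
  have e : RowI a₂ a₃ (n + 1) ≃ ColI a a₃ (n + 1) :=
    Fintype.equivOfCardEq (by simp [h₁, h₃]; ring)
  obtain ⟨φ₀, h₀⟩ := exists_special e₁ e₃ t ht
  obtain ⟨p₁, hp₁, hp₁'⟩ := generic_mono (k := k) (a := a) (a₂ := a₂) (a₃ := a₃) (by
    subst h₁; subst h₃; rw [Nat.add_sub_cancel, Nat.succ_mul]; omega)
  let p₂ : MvPolynomial (Fin (mm k a a₂ a₃)) k := (Matrix.of fun ρ ρ' => Nuniv t ρ (e ρ')).det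
  have hdet : ∀ φ, MvPolynomial.eval (coord k a a₂ a₃ φ) p₂ = (Matrix.of fun ρ ρ' => Nmat t φ ρ (e ρ')).det := by
    intro φ
    rw [RingHom.map_det]
    congr 1
    exact Matrix.ext fun ρ ρ' => eval_Nuniv t φ ρ (e ρ')
  have hmul : ∀ (φ : AA k a ⟶ BB k a₂ a₃) (w : RowI a₂ a₃ (n + 1) → k) (j : Fin (n + 1)) (i : Fin a₂ ⊕ Fin a₃), ((Matrix.of fun ρ ρ' => Nmat t φ ρ (e ρ')).mulVec w) (j, i) =
      sys t φ (fun j q => w (e.symm (Sum.inl (j, q)))) (fun p => w (e.symm (Sum.inr p))) j i := fun φ w j i => by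
    rw [← mulVec_Nmat t φ (fun κ => w (e.symm κ))]
    exact Fintype.sum_equiv e _ _ fun ρ => by simp [Matrix.of_apply]
  have h2ne : MvPolynomial.eval (coord k a a₂ a₃ φ₀) p₂ ≠ 0 := by
    rw [hdet]
    intro hz
    obtain ⟨w, hw, hw0⟩ := Matrix.exists_mulVec_eq_zero_iff.2 hz
    obtain ⟨hu, hb⟩ := h₀ _ _ fun j i => (hmul φ₀ w j i).symm.trans (congrFun hw0 (j, i))
    refine hw (funext fun ρ => ?_)
    rw [← e.symm_apply_apply ρ]
    rcases e ρ with ⟨j, q⟩ | p
    · exact congrFun (congrFun hu j) q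
    · exact congrFun hb p
  refine ⟨_, coord k a a₂ a₃, p₁ * p₂, mul_ne_zero hp₁ fun h => h2ne (by rw [h, map_zero]), fun φ hφ => ?_⟩
  rw [map_mul] at hφ
  obtain ⟨T, hT⟩ := hp₁' φ (left_ne_zero_of_mul hφ)
  haveI hmono := mono_of_minor φ T hT
  have hd : IsUnit (Matrix.of fun ρ ρ' => Nmat t φ ρ (e ρ')).det :=
    IsUnit.mk0 _ (by rw [← hdet]; exact right_ne_zero_of_mul hφ)
  refine ⟨hmono, ptIdeal t, isReduced_subscheme t, card_subscheme t ht, fun q => ?_⟩
  refine CohQC.hh_subsingleton_of_iso (TMul.commIso (ClSub.idealMod (ptIdeal t)) (cokernel φ)) _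
    (vanish t φ ht (fun u b h => ?_) (fun w => ?_) q)
  · let w : RowI a₂ a₃ (n + 1) → k := fun ρ => Sum.elim (fun jq => u jq.1 jq.2) b (e ρ)
    have hw : w = 0 := by
      refine Matrix.mulVec_injective_iff_isUnit.2 ((Matrix.isUnit_iff_isUnit_det _).2 hd) ?_
      rw [Matrix.mulVec_zero]
      funext ⟨j, i⟩
      rw [hmul]
      simpa [w] using h j i
    constructor
    · funext j q
      simpa [w] using congrFun hw (e.symm (Sum.inl (j, q)))
    · funext p
      simpa [w] using congrFun hw (e.symm (Sum.inr p))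
  · refine ⟨fun j q => ((Matrix.of fun ρ ρ' => Nmat t φ ρ (e ρ'))⁻¹.mulVec fun ρ => w ρ.1 ρ.2) (e.symm (Sum.inl (j, q))),
      fun p => ((Matrix.of fun ρ ρ' => Nmat t φ ρ (e ρ'))⁻¹.mulVec fun ρ => w ρ.1 ρ.2) (e.symm (Sum.inr p)), fun j i => ?_⟩
    rw [← hmul, Matrix.mulVec_mulVec, Matrix.mul_nonsing_inv _ hd, Matrix.one_mulVec]

end Groth.Agent.GaetaGen
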