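import Groth.Agent.GaetaGen.Chart
import Groth.Agent.GaetaGen.Frame
import Groth.Agent.Horrocks.Dim
import Groth.Agent.QC.Support
import Groth.Agent.RPushQC.SectionsExact
import Groth.Prelude.Def_ShStab
import Groth.Prelude.Def_Curv2

/-!
General maps `O(-2)^a ⟶ O(-1)^{α₂} ⊕ O^{α₃}` on the plane.
-/

set_option autoImplicit false
set_option linter.unusedSectionVars false
set_option linter.style.haveILetI false
set_option backward.isDefEq.respectTransparency false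
set_option maxHeartbeats 1000000

universe u

open CategoryTheory CategoryTheory.Limits AlgebraicGeometry MvPolynomial
open Groth.Agent.QC (res resO app_res res_self resO_self)
open Groth.Agent.RegPow (S D dh gen isGen_gen X_mem exists_D isAffine_D psiIso)
open Groth.Agent.GaetaRes (Tw)
open Groth.Agent.DetReg (pr total)

attribute [local instance] CategoryTheory.Abelian.hasFiniteBiproducts

noncomputable section

namespace Groth.Agent.GaetaGen

variable {k : Type u} [Field k]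

instance instIsIntegralPlane : IsIntegral (CohB1.ProjSpace 2 k) := Horrocks.isIntegral_projSpace

abbrev P2 (k : Type u) [Field k] : Scheme.{u} := CohB1.ProjSpace 2 k

variable (k) in
/-- The source. -/
abbrev AA (a : ℕ) : (P2 k).Modules := ∐ fun _ : Fin a => Twist.twistProjSpace 2 k (-2)

variable (k) in
/-- The target. -/
abbrev BB (a₂ a₃ : ℕ) : (P2 k).Modules :=
  (∐ fun _ : Fin a₂ => Twist.twistProjSpace 2 k (-1)) ⊞ (∐ fun _ : Fin a₃ => Coh.structureModule (CohB1.ProjSpace 2 k))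

variable {a a₂ a₃ : ℕ}

/-- Degrees of the rows. -/
abbrev dd : Fin a₂ ⊕ Fin a₃ → ℕ := Sum.elim (fun _ => 1) fun _ => 2

/-- Twists of the rows. -/
abbrev cc : Fin a₂ ⊕ Fin a₃ → ℤ := Sum.elim (fun _ => -1) fun _ => 0

lemma hdeg : ∀ i : Fin a₂ ⊕ Fin a₃, (-2 : ℤ) + (dd i : ℕ) = cc i := by rintro (j | j) <;> norm_num [dd, cc]

/-- `O = O(0)`. -/
def psi0 : Coh.structureModule (CohB1.ProjSpace 2 k) ≅ Tw k 2 0 := psiIso

/-- Inclusions of the rows. -/
def ιB : ∀ i : Fin a₂ ⊕ Fin a₃, Tw k 2 (cc i) ⟶ BB k a₂ a₃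
  | .inl j => Sigma.ι (fun _ : Fin a₂ => Twist.twistProjSpace 2 k (-1)) j ≫ biprod.inl
  | .inr j => psi0.inv ≫ Sigma.ι (fun _ : Fin a₃ => Coh.structureModule (CohB1.ProjSpace 2 k)) j ≫ biprod.inr

/-- Projections onto the rows. -/
def pB : ∀ i : Fin a₂ ⊕ Fin a₃, BB k a₂ a₃ ⟶ Tw k 2 (cc i)
  | .inl j => biprod.fst ≫ pr _ j
  | .inr j => biprod.snd ≫ pr _ j ≫ psi0.hom

lemma ι_pr {X : Scheme.{u}} {n : ℕ} (M : X.Modules) (p q : Fin n) :
    Sigma.ι (fun _ : Fin n => M) p ≫ pr M q = if p = q then 𝟙 M else 0 := by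
  rw [pr, colimit.ι_desc]
  rfl

/-- The `O(-1)` rows. -/
abbrev S₁ (k : Type u) [Field k] (a₂ : ℕ) : (P2 k).Modules := ∐ fun _ : Fin a₂ => Twist.twistProjSpace 2 k (-1)

/-- The `O` rows. -/
abbrev S₂ (k : Type u) [Field k] (a₃ : ℕ) : (P2 k).Modules :=
  ∐ fun _ : Fin a₃ => Coh.structureModule (CohB1.ProjSpace 2 k)

lemma row_ll (p q : Fin a₂) :
    (Sigma.ι (fun _ : Fin a₂ => Twist.twistProjSpace 2 k (-1)) p ≫ (biprod.inl : S₁ k a₂ ⟶ BB k a₂ a₃)) ≫
      (biprod.fst : BB k a₂ a₃ ⟶ S₁ k a₂) ≫ pr _ q = if p = q then 𝟙 _ else 0 := by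
  rw [Category.assoc, biprod.inl_fst_assoc, ι_pr]

lemma row_lr (p : Fin a₂) (q : Fin a₃) :
    (Sigma.ι (fun _ : Fin a₂ => Twist.twistProjSpace 2 k (-1)) p ≫ (biprod.inl : S₁ k a₂ ⟶ BB k a₂ a₃)) ≫
      (biprod.snd : BB k a₂ a₃ ⟶ S₂ k a₃) ≫ pr _ q = 0 := by
  rw [Category.assoc, biprod.inl_snd_assoc, zero_comp, comp_zero]

lemma row_rl (p : Fin a₃) (q : Fin a₂) :
    (Sigma.ι (fun _ : Fin a₃ => Coh.structureModule (CohB1.ProjSpace 2 k)) p ≫ (biprod.inr : S₂ k a₃ ⟶ BB k a₂ a₃)) ≫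
      (biprod.fst : BB k a₂ a₃ ⟶ S₁ k a₂) ≫ pr _ q = 0 := by
  rw [Category.assoc, biprod.inr_fst_assoc, zero_comp, comp_zero]

lemma row_rr (p q : Fin a₃) :
    (Sigma.ι (fun _ : Fin a₃ => Coh.structureModule (CohB1.ProjSpace 2 k)) p ≫ (biprod.inr : S₂ k a₃ ⟶ BB k a₂ a₃)) ≫
      (biprod.snd : BB k a₂ a₃ ⟶ S₂ k a₃) ≫ pr _ q = if p = q then 𝟙 _ else 0 := by
  rw [Category.assoc, biprod.inr_snd_assoc, ι_pr]

lemma ιB_pB_self (i : Fin a₂ ⊕ Fin a₃) : ιB (k := k) i ≫ pB i = 𝟙 _ := by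
  rcases i with j | j
  · exact (row_ll j j).trans (if_pos rfl)
  · show (psi0.inv ≫ Sigma.ι (fun _ : Fin a₃ => Coh.structureModule (CohB1.ProjSpace 2 k)) j ≫
      (biprod.inr : S₂ k a₃ ⟶ BB k a₂ a₃)) ≫ (biprod.snd ≫ pr _ j ≫ psi0.hom) = 𝟙 (Tw k 2 0)
    rw [Category.assoc, Category.assoc, biprod.inr_snd_assoc, reassoc_of% (ι_pr (Coh.structureModule (CohB1.ProjSpace 2 k)) j j),
      if_true, Category.id_comp, Iso.inv_hom_id]

lemma ιB_pB_ne (i j : Fin a₂ ⊕ Fin a₃) (h : i ≠ j) : ιB (k := k) i ≫ pB j = 0 := by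
  rcases i with i | i <;> rcases j with j | j
  · exact (row_ll i j).trans (if_neg fun e => h (congrArg Sum.inl e))
  · show (Sigma.ι (fun _ : Fin a₂ => Twist.twistProjSpace 2 k (-1)) i ≫ (biprod.inl : S₁ k a₂ ⟶ BB k a₂ a₃)) ≫
      (biprod.snd ≫ pr _ j ≫ psi0.hom) = (0 : Twist.twistProjSpace 2 k (-1) ⟶ Tw k 2 0)
    rw [Category.assoc, biprod.inl_snd_assoc, zero_comp, comp_zero]
  · show (psi0.inv ≫ Sigma.ι (fun _ : Fin a₃ => Coh.structureModule (CohB1.ProjSpace 2 k)) i ≫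
      (biprod.inr : S₂ k a₃ ⟶ BB k a₂ a₃)) ≫ (biprod.fst ≫ pr _ j) = (0 : Tw k 2 0 ⟶ Twist.twistProjSpace 2 k (-1))
    rw [Category.assoc, Category.assoc, biprod.inr_fst_assoc, zero_comp, comp_zero, comp_zero]
  · show (psi0.inv ≫ Sigma.ι (fun _ : Fin a₃ => Coh.structureModule (CohB1.ProjSpace 2 k)) i ≫
      (biprod.inr : S₂ k a₃ ⟶ BB k a₂ a₃)) ≫ (biprod.snd ≫ pr _ j ≫ psi0.hom) = (0 : Tw k 2 0 ⟶ Tw k 2 0)
    rw [Category.assoc, Category.assoc, biprod.inr_snd_assoc, reassoc_of% (ι_pr (Coh.structureModule (CohB1.ProjSpace 2 k)) i j),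
      if_neg fun e => h (congrArg Sum.inr e), zero_comp, comp_zero]

lemma totB : ∑ i, pB (k := k) (a₂ := a₂) (a₃ := a₃) i ≫ ιB i = 𝟙 _ := by
  rw [Fintype.sum_sum_type]
  refine Eq.trans ?_ (biprod.total (X := S₁ k a₂) (Y := S₂ k a₃))
  refine congrArg₂ (· + ·) ?_ ?_
  · show ∑ j : Fin a₂, ((biprod.fst : BB k a₂ a₃ ⟶ S₁ k a₂) ≫ pr _ j) ≫
      (Sigma.ι (fun _ : Fin a₂ => Twist.twistProjSpace 2 k (-1)) j ≫ biprod.inl) = _
    simp only [Category.assoc, ← Preadditive.comp_sum]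
    simp only [← Category.assoc (pr _ _), ← Preadditive.sum_comp, total, Category.id_comp]
  · show ∑ j : Fin a₃, ((biprod.snd : BB k a₂ a₃ ⟶ S₂ k a₃) ≫ pr _ j ≫ psi0.hom) ≫
      (psi0.inv ≫ Sigma.ι (fun _ : Fin a₃ => Coh.structureModule (CohB1.ProjSpace 2 k)) j ≫ biprod.inr) = _
    simp only [Category.assoc, Iso.hom_inv_id_assoc, ← Preadditive.comp_sum]
    simp only [← Category.assoc (pr _ _), ← Preadditive.sum_comp, total, Category.id_comp]

lemma isCoh_biprod {X : Scheme.{u}} {M M' : X.Modules} (h : Coh.IsCoh M) (h' : Coh.IsCoh M') :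
    Coh.IsCoh (M ⊞ M') := by
  refine QC.isCoh_iff_finite_sections.2 ⟨RPushQC.isQCoh_biprod h.1 h'.1, fun U => ?_⟩
  have := (QC.isCoh_iff_finite_sections.1 h).2 U
  have := (QC.isCoh_iff_finite_sections.1 h').2 U
  let L : (Γ(M, U.1) × Γ(M', U.1)) →ₗ[Γ(X, U.1)] Γ(M ⊞ M', U.1) :=
    (QC.appₗ (biprod.inl : M ⟶ M ⊞ M') U.1).coprod (QC.appₗ biprod.inr U.1)
  refine Module.Finite.of_surjective L fun t =>
    ⟨((biprod.fst : M ⊞ M' ⟶ M).app U.1 t, (biprod.snd : M ⊞ M' ⟶ M').app U.1 t), ?_⟩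
  exact congrArg (fun f : M ⊞ M' ⟶ M ⊞ M' => f.app U.1 t) (biprod.total : _ = 𝟙 (M ⊞ M'))

/-- Frame vectors of the source. -/
def fA (c : Fin 3) (j : Fin a) : Γ(AA k a, D (k := k) c) :=
  (Sigma.ι (fun _ : Fin a => Twist.twistProjSpace 2 k (-2)) j).app (D c) (gen (k := k) (-2) c)

/-- Frame vectors of the target. -/
def fB (c : Fin 3) (i : Fin a₂ ⊕ Fin a₃) : Γ(BB k a₂ a₃, D (k := k) c) := (ιB i).app (D c) (gen (k := k) (cc i) c)

lemma frameA (c : Fin 3) : IsFrame (fA (k := k) (a := a) c) :=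
  isFrame_of_split (L := fun _ : Fin a => Tw k 2 (-2)) (fun j => Sigma.ι (fun _ : Fin a => Twist.twistProjSpace 2 k (-2)) j)
    (fun j => pr _ j) (fun j => (ι_pr _ j j).trans (if_pos rfl)) (fun i j h => (ι_pr _ i j).trans (if_neg h)) (total _)
    (fun _ => gen (k := k) (-2) c) fun _ => isGen_gen _ c

lemma frameB (c : Fin 3) : IsFrame (fB (k := k) (a₂ := a₂) (a₃ := a₃) c) :=
  isFrame_of_split ιB pB ιB_pB_self ιB_pB_ne totB (fun i => gen (k := k) (cc i) c) fun i => isGen_gen _ c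

lemma isCohA : Coh.IsCoh (AA k a) := DetReg.isCoh_sigma a (CohFinite.isCoh_twist 2 k _)

lemma isCohB : Coh.IsCoh (BB k a₂ a₃) :=
  isCoh_biprod (DetReg.isCoh_sigma a₂ (CohFinite.isCoh_twist 2 k _))
    (DetReg.isCoh_sigma a₃ (Devissage.isCoh_unit _))

variable (k a a₂ a₃) in
/-- The entries, linearly. -/
def Lmat (i : Fin a₂ ⊕ Fin a₃) (j : Fin a) : (AA k a ⟶ BB k a₂ a₃) →ₗ[k] S k 2 :=
  ((CohB1.polyGrading 2 k (dd i)).subtype.comp (formEquiv 2 (hdeg i)).toLinearMap).comp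
    ((Linear.leftComp k (Tw k 2 (cc i)) (Sigma.ι (fun _ : Fin a => Twist.twistProjSpace 2 k (-2)) j)).comp
      (Linear.rightComp k (AA k a) (pB i)))

variable (φ : AA k a ⟶ BB k a₂ a₃)

lemma Lmat_mem (i : Fin a₂ ⊕ Fin a₃) (j : Fin a) : Lmat k a a₂ a₃ i j φ ∈ CohB1.polyGrading 2 k (dd i) :=
  (formEquiv 2 (hdeg i) _).2

/-- The matrix in a chart. -/
def chartMat (c : Fin 3) (i : Fin a₂ ⊕ Fin a₃) (j : Fin a) : Γ(P2 k, D (k := k) c) := dh c (Lmat k a a₂ a₃ i j φ)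

lemma hasMat (c : Fin 3) : HasMat φ (fA c) (fB c) (chartMat φ c) := fun j => by
  have h0 : φ.app (D c) (fA c j) =
      DetReg.evalApp (fA c j) (∑ i, φ ≫ pB i ≫ ιB i) := by
    rw [← Preadditive.comp_sum, totB, Category.comp_id]
    rfl
  rw [h0, map_sum]
  refine Finset.sum_congr rfl fun i _ => ?_
  change (ιB i).app (D c) ((Sigma.ι (fun _ : Fin a => Twist.twistProjSpace 2 k (-2)) j ≫ φ ≫ pB i).app (D c)
    (gen (k := k) (-2) c)) = _
  rw [app_gen (hdeg i), Scheme.Modules.Hom.app_smul]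
  rfl

/-- The maximal minors. -/
def Mn (T : Fin a → Fin a₂ ⊕ Fin a₃) : S k 2 := (Matrix.of fun p q => Lmat k a a₂ a₃ (T p) q φ).det

lemma dh_Mn (c : Fin 3) (T : Fin a → Fin a₂ ⊕ Fin a₃) : dh c (Mn φ T) = minor (chartMat φ c) T := by
  rw [Mn, RingHom.map_det]
  rfl

lemma Mn_mem (T : Fin a → Fin a₂ ⊕ Fin a₃) : ∃ e, Mn φ T ∈ CohB1.polyGrading 2 k e :=
  ⟨_, det_isHomogeneous _ (fun p => dd (T p)) fun p q => Lmat_mem φ (T p) q⟩

/-- A morphism with prescribed entries. -/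
theorem exists_hom (z : Fin a₂ ⊕ Fin a₃ → Fin a → S k 2) (hz : ∀ i j, z i j ∈ CohB1.polyGrading 2 k (dd i)) :
    ∃ φ : AA k a ⟶ BB k a₂ a₃, ∀ i j, Lmat k a a₂ a₃ i j φ = z i j := by
  classical
  refine ⟨∑ i, ∑ j, pr (Twist.twistProjSpace 2 k (-2)) j ≫ (formEquiv 2 (hdeg i)).symm ⟨z i j, hz i j⟩ ≫ ιB i,
    fun i j => ?_⟩
  have h : Sigma.ι (fun _ : Fin a => Twist.twistProjSpace 2 k (-2)) j ≫
      (∑ i, ∑ j, pr (Twist.twistProjSpace 2 k (-2)) j ≫ (formEquiv 2 (hdeg i)).symm ⟨z i j, hz i j⟩ ≫ ιB i) ≫ pB i =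
      (formEquiv 2 (hdeg i)).symm ⟨z i j, hz i j⟩ := by
    simp only [Preadditive.sum_comp, Preadditive.comp_sum, Category.assoc]
    rw [Finset.sum_eq_single i, Finset.sum_eq_single j]
    · rw [reassoc_of% (ι_pr (Twist.twistProjSpace 2 k (-2)) j j), if_true, Category.id_comp, ιB_pB_self,
        Category.comp_id]
    · intro q _ hq
      rw [reassoc_of% (ι_pr (Twist.twistProjSpace 2 k (-2)) j q), if_neg (Ne.symm hq), zero_comp]
    · exact fun h => absurd (Finset.mem_univ _) h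
    · intro p _ hp
      exact Finset.sum_eq_zero fun q _ => by rw [ιB_pB_ne p i hp, comp_zero, comp_zero, comp_zero]
    · exact fun h => absurd (Finset.mem_univ _) h
  change ((formEquiv 2 (hdeg i) _ : ↥(CohB1.polyGrading 2 k (dd i))) : S k 2) = z i j
  simp only [LinearMap.comp_apply, Linear.leftComp_apply, Linear.rightComp_apply]
  rw [h, LinearEquiv.apply_symm_apply]

theorem finite_hom : Module.Finite k (AA k a ⟶ BB k a₂ a₃) := by
  haveI := GaetaRes.finite_hom (k := k) (n := 2) (-2) (isCohB (k := k) (a₂ := a₂) (a₃ := a₃))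
  refine Module.Finite.of_injective (LinearMap.pi fun j =>
    Linear.leftComp k (BB k a₂ a₃) (Sigma.ι (fun _ : Fin a => Twist.twistProjSpace 2 k (-2)) j)) fun f g h =>
    Sigma.hom_ext _ _ fun j => congrFun h j

variable (k a a₂ a₃) in
/-- The number of parameters. -/
def mm : ℕ := Module.finrank k (AA k a ⟶ BB k a₂ a₃)

variable (k a a₂ a₃) in
/-- The coordinates. -/
def coord : (AA k a ⟶ BB k a₂ a₃) ≃ₗ[k] (Fin (mm k a a₂ a₃) → k) :=
  haveI := finite_hom (k := k) (a := a) (a₂ := a₂) (a₃ := a₃)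
  (Module.finBasis k (AA k a ⟶ BB k a₂ a₃)).equivFun

variable (k a a₂ a₃) in
/-- The universal matrix. -/
def UM (i : Fin a₂ ⊕ Fin a₃) (j : Fin a) : MvPolynomial (Fin 3) (MvPolynomial (Fin (mm k a a₂ a₃)) k) :=
  univ (coord k a a₂ a₃) (Lmat k a a₂ a₃ i j)

lemma ev_UM (v : Fin (mm k a a₂ a₃) → k) {n : ℕ} (r : Fin n → Fin a₂ ⊕ Fin a₃) (c : Fin n → Fin a) :
    ev v (Matrix.of fun p q => UM k a a₂ a₃ (r p) (c q)).det =
      (Matrix.of fun p q => Lmat k a a₂ a₃ (r p) (c q) ((coord k a a₂ a₃).symm v)).det := by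
  rw [RingHom.map_det]
  congr 1
  refine Matrix.ext fun p q => ?_
  exact ev_univ (coord k a a₂ a₃) (Lmat k a a₂ a₃ (r p) (c q)) v

lemma chart_span {n : Fin 3 → ℕ} {τ : Type*} (G : τ → S k 2)
    (h : ∀ s, (X s : S k 2) ^ n s ∈ Ideal.span (Set.range G)) (c : Fin 3) :
    Ideal.span (Set.range fun t => dh c (G t)) = ⊤ := by
  rw [Ideal.eq_top_iff_one]
  have := Ideal.mem_map_of_mem (dh (k := k) c) (h c)
  rwa [map_pow, show dh (k := k) c (X c) = 1 from GrT.deh_self _ (X_mem c), one_pow, Ideal.map_span, ← Set.range_comp]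
    at this

lemma regular_res {c : Fin 3} {z : S k 2} {e : ℕ} (hz : z ∈ CohB1.polyGrading 2 k e) (hz0 : z ≠ 0)
    {V : (P2 k).Opens} (hV : V ≤ D c) : IsLeftRegular (resO (P2 k) hV (dh c z)) := by
  by_cases hne : Nonempty V
  · haveI := hne
    refine (IsRegular.of_ne_zero ?_).left
    intro h0
    refine hz0 (dh_injective c hz (zero_mem _) ?_)
    rw [map_zero]
    exact map_injective_of_isIntegral (P2 k) (homOfLE hV) (h0.trans (map_zero _).symm)
  · haveI : Subsingleton Γ(P2 k, V) := by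
      refine ⟨fun x y => GrT.pO_ext _ fun p => absurd ⟨p⟩ hne⟩
    exact fun x y _ => Subsingleton.elim x y

/-- A non-zero maximal minor gives a monomorphism. -/
theorem mono_of_minor (T : Fin a → Fin a₂ ⊕ Fin a₃) (hT : Mn φ T ≠ 0) : Mono φ := by
  obtain ⟨e, he⟩ := Mn_mem φ T
  refine (QC.mono_iff_app_injective φ).2 fun U s t hst => QC.section_eq_of_locally fun x hx => ?_
  obtain ⟨c, hc⟩ := exists_D (k := k) x
  refine ⟨U ⊓ D c, inf_le_left, ⟨hx, hc⟩, ?_⟩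
  refine app_injective ((frameA c).res inf_le_right) ((frameB c).res inf_le_right) ((hasMat φ c).res inf_le_right) T
    ?_ ?_
  · have := regular_res (c := c) he hT (inf_le_right : U ⊓ D c ≤ D c)
    rw [dh_Mn, RingHom.map_det] at this
    exact this
  · rw [← app_res, ← app_res, hst]

/-- Unit maximal minors everywhere give a locally free cokernel. -/
theorem locFree_of_span {n : Fin 3 → ℕ} (h : ∀ s, (X s : S k 2) ^ n s ∈ Ideal.span (Set.range (Mn φ))) :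
    FlatMod.IsFinLocFreeOfRank (a₂ + a₃ - a) (cokernel φ) := fun x => by
  classical
  obtain ⟨c, hc⟩ := exists_D (k := k) x
  have hU := isAffine_D (k := k) (r := 2) c
  obtain ⟨T, hxT⟩ : ∃ T, x ∈ (P2 k).basicOpen (dh c (Mn φ T)) := by
    have := (hU.iSup_basicOpen_eq_self_iff (s := Set.range fun T => dh c (Mn φ T))).2 (chart_span _ h c)
    have hx : x ∈ ⨆ f : Set.range fun T => dh c (Mn φ T), (P2 k).basicOpen (f : Γ(P2 k, D (k := k) c)) := this.symm ▸ hc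
    obtain ⟨⟨_, T, rfl⟩, hT⟩ := TopologicalSpace.Opens.mem_iSup.1 hx
    exact ⟨T, hT⟩
  have hle := (P2 k).basicOpen_le (dh c (Mn φ T))
  have hu : IsUnit (resO (P2 k) hle (dh c (Mn φ T))) := RingedSpace.isUnit_res_basicOpen _ _
  rw [show resO (P2 k) hle (dh c (Mn φ T)) = resO (P2 k) hle (minor (chartMat φ c) T) from
    congrArg _ (dh_Mn φ c T), RingHom.map_det] at hu
  haveI : Nonempty ((P2 k).basicOpen (dh c (Mn φ T))) := ⟨⟨x, hxT⟩⟩
  have hinj : Function.Injective T := by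
    intro p q hpq
    by_contra hne
    refine not_isUnit_zero (M₀ := Γ(P2 k, (P2 k).basicOpen (dh c (Mn φ T)))) ?_
    rwa [Matrix.det_zero_of_row_eq hne (funext fun j => by simp [hpq])] at hu
  obtain ⟨b⟩ := exists_basis (φ := φ) (isCohA (k := k) (a := a)).1 (isCohB (k := k) (a₂ := a₂) (a₃ := a₃)).1
    (hU.basicOpen (dh c (Mn φ T))) ((frameA c).res hle) ((frameB c).res hle) ((hasMat φ c).res hle) T hinj hu
  have hcard : Fintype.card (Fin a₂ ⊕ Fin a₃) - a = a₂ + a₃ - a := by simp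
  exact ⟨(P2 k).basicOpen (dh c (Mn φ T)), hxT, FittLib.exists_iso_of_basis
    (QC.isQCoh_cokernel (isCohA (k := k) (a := a)).1 (isCohB (k := k) (a₂ := a₂) (a₃ := a₃)).1 φ)
    (hU.basicOpen (dh c (Mn φ T))) (b.reindex (finCongr hcard))⟩

/-- Finitely many degeneracy points give a pure cokernel. -/
theorem pure_of_nodiv (hπ : ∀ π : S k 2, Prime π → ∃ T, ¬ π ∣ Mn φ T) :
    ShStab.IsPure (P2 k) (cokernel φ) 2 := by
  have hQ := QC.isQCoh_cokernel (isCohA (k := k) (a := a)).1 (isCohB (k := k) (a₂ := a₂) (a₃ := a₃)).1 φ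
  have htf : ∀ (c : Fin 3) (r : Γ(P2 k, D (k := k) c)) (q : Γ(cokernel φ, D (k := k) c)), r ≠ 0 → r • q = 0 → q = 0 := by
    intro c r q hr hq
    haveI : Nonempty (D (k := k) (r := 2) c) := let ⟨y, hy⟩ := D_ne_bot (k := k) c; ⟨⟨y, hy⟩⟩
    refine coker_torsionfree (isCohA (k := k) (a := a)).1 (isCohB (k := k) (a₂ := a₂) (a₃ := a₃)).1
      (isAffine_D c) (frameA c) (frameB c) (hasMat φ c) (fun r' c' hr' h => ?_) hr hq
    refine chart_dvd (Mn φ) (Mn_mem φ) hπ c r' c' hr' fun T => ?_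
    rw [dh_Mn]
    exact h T
  intro F ι hι hF hne
  haveI : F.IsQuasicoherent := hF.1
  suffices hs : CohB1.support F = Set.univ by
    rw [hs]
    exact ((Homeomorph.Set.univ (P2 k)).isHomeomorph.topologicalKrullDim_eq).trans (Groth.Agent.S10829.result k 2)
  by_contra hs
  obtain ⟨x, hx⟩ := (Set.ne_univ_iff_exists_notMem _).1 hs
  have step : ∀ (c : Fin 3) (y : P2 k), y ∈ D (k := k) c → y ∉ CohB1.support F → ∀ t : Γ(F, D (k := k) c), t = 0 := by
    intro c y hy hyF t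
    obtain ⟨f, hyf, hft⟩ := (QC.notMem_support_iff_affine (isAffine_D c) hy).1 hyF t
    have hf : f ≠ 0 := fun h0 => by
      rw [h0, Scheme.basicOpen_zero] at hyf
      exact hyf
    refine QC.app_injective_of_mono ι _ ?_
    rw [map_zero]
    exact htf c f _ hf (by rw [← Scheme.Modules.Hom.app_smul, hft, map_zero])
  have hall : ∀ y : P2 k, y ∉ CohB1.support F := by
    intro y
    obtain ⟨c, hc⟩ := exists_D (k := k) x
    obtain ⟨c', hc'⟩ := exists_D (k := k) y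
    obtain ⟨z, hz, hz'⟩ := nonempty_preirreducible_inter (D (k := k) (r := 2) c).isOpen (D (k := k) (r := 2) c').isOpen
      ⟨x, hc⟩ ⟨y, hc'⟩
    have hzF : z ∉ CohB1.support F := (QC.notMem_support_iff_affine (isAffine_D c) hz).2 fun m =>
      ⟨1, by rw [Scheme.basicOpen_of_isUnit _ isUnit_one]; exact hz, by rw [one_smul, step c x hc hx m]⟩
    exact (QC.notMem_support_iff_affine (isAffine_D c') hc').2 fun m =>
      ⟨1, by rw [Scheme.basicOpen_of_isUnit _ isUnit_one]; exact hc', by rw [one_smul, step c' z hz' hzF m]⟩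
  refine hne ((IsZero.iff_id_eq_zero F).2 (Scheme.Modules.hom_ext _ _ fun U => ConcreteCategory.hom_ext _ _ fun s =>
    QC.section_eq_of_locally fun y hy => ?_))
  obtain ⟨W, hW, hyW, he⟩ := (QC.notMem_support_iff y).1 (hall y) U hy s
  exact ⟨W, hW, hyW, he.trans (map_zero _).symm⟩

lemma not_isZero (h1 : a < a₂ + a₃) (T : Fin a → Fin a₂ ⊕ Fin a₃) (hT : Mn φ T ≠ 0) : ¬ IsZero (cokernel φ) := by
  classical
  intro hz
  obtain ⟨e, he⟩ := Mn_mem φ T
  have hle := (P2 k).basicOpen_le (dh 0 (Mn φ T))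
  have hne : (P2 k).basicOpen (dh 0 (Mn φ T)) ≠ ⊥ := fun h0 =>
    hT (dh_injective 0 he (zero_mem _) (by rw [map_zero]; exact (basicOpen_eq_bot_iff _).1 h0))
  haveI : Nonempty ((P2 k).basicOpen (dh 0 (Mn φ T))) := by
    by_contra h
    exact hne (TopologicalSpace.Opens.ext (Set.eq_empty_of_forall_notMem fun y hy => h ⟨⟨y, hy⟩⟩))
  have hu : IsUnit (resO (P2 k) hle (dh 0 (Mn φ T))) := RingedSpace.isUnit_res_basicOpen _ _
  rw [show resO (P2 k) hle (dh 0 (Mn φ T)) = resO (P2 k) hle (minor (chartMat φ 0) T) from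
    congrArg _ (dh_Mn φ 0 T), RingHom.map_det] at hu
  have hinj : Function.Injective T := by
    intro p q hpq
    by_contra hne
    refine not_isUnit_zero (M₀ := Γ(P2 k, (P2 k).basicOpen (dh 0 (Mn φ T)))) ?_
    rwa [Matrix.det_zero_of_row_eq hne (funext fun j => by simp [hpq])] at hu
  obtain ⟨b⟩ := exists_basis (φ := φ) (isCohA (k := k) (a := a)).1 (isCohB (k := k) (a₂ := a₂) (a₃ := a₃)).1
    ((isAffine_D (k := k) 0).basicOpen (dh 0 (Mn φ T))) ((frameA 0).res hle) ((frameB 0).res hle)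
    ((hasMat φ 0).res hle) T hinj hu
  have hsub : ∀ v : Γ(cokernel φ, (P2 k).basicOpen (dh 0 (Mn φ T))), v = 0 := fun v =>
    show DetReg.evalApp v (𝟙 (cokernel φ)) = 0 by rw [(IsZero.iff_id_eq_zero _).1 hz, map_zero]
  exact b.ne_zero ⟨0, by simp; omega⟩ (hsub _)

/-- Surjectivity onto the `O(-1)` rows gives global generation. -/
theorem isGloballyGenerated_of_span {n : Fin 3 → ℕ} (h : ∀ s, (X s : S k 2) ^ n s ∈
    Ideal.span (Set.range fun T : Fin a₂ → Fin a => (Matrix.of fun p q => Lmat k a a₂ a₃ (Sum.inl p) (T q) φ).det)) :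
    Curv2.IsGloballyGenerated (cokernel φ) := by
  let π₁ : (∐ fun _ : Fin a₃ => Coh.structureModule (CohB1.ProjSpace 2 k)) ⟶ cokernel φ := biprod.inr ≫ cokernel.π φ
  have hloc : ∀ (c : Fin 3) (q : Γ(cokernel φ, D (k := k) c)), ∃ t, π₁.app (D c) t = q := by
    intro c q
    have hspan := exists_combination (φ := φ) (isCohA (k := k) (a := a)).1 (isCohB (k := k) (a₂ := a₂) (a₃ := a₃)).1
      (isAffine_D c) (frameB c) (hasMat φ c) (Sum.inl (β := Fin a₃)) (Sum.inr (α := Fin a₂))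
      (fun i => by rcases i with i | i; exacts [Or.inl ⟨i, rfl⟩, Or.inr ⟨i, rfl⟩]) ?_ q
    · obtain ⟨co, rfl⟩ := (Submodule.mem_span_range_iff_exists_fun Γ(P2 k, D (k := k) c)).1 hspan
      refine ⟨∑ p, co p • (psi0.inv ≫ Sigma.ι (fun _ : Fin a₃ => Coh.structureModule (CohB1.ProjSpace 2 k)) p).app
        (D c) (gen (k := k) 0 c), ?_⟩
      rw [map_sum]
      refine Finset.sum_congr rfl fun p _ => ?_
      rw [Scheme.Modules.Hom.app_smul]
      congr 1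
    · have := chart_span _ h c
      simp only [RingHom.map_det] at this
      exact this
  haveI : Epi π₁ := InvGen.epi_of_locally π₁ fun U t x hx => by
    obtain ⟨c, hc⟩ := exists_D (k := k) x
    obtain ⟨f, g, hle, hxf, n, m, hm⟩ : ∃ (f : Γ(P2 k, D (k := k) c)) (g : Unit) (hle : (P2 k).basicOpen f ≤ U)
        (_ : x ∈ (P2 k).basicOpen f) (n : ℕ) (m : Γ(cokernel φ, D (k := k) c)),
        res _ ((P2 k).basicOpen_le f) m = resO _ ((P2 k).basicOpen_le f) f ^ n • res _ hle t := by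
      haveI : (cokernel φ).IsQuasicoherent :=
        QC.isQCoh_cokernel (isCohA (k := k) (a := a)).1 (isCohB (k := k) (a₂ := a₂) (a₃ := a₃)).1 φ
      obtain ⟨f, hfU, hxf⟩ := (isAffine_D (k := k) (r := 2) c).exists_basicOpen_le (⟨x, hx⟩ : U) hc
      obtain ⟨n, m, hm⟩ := (QC.isLoc_of_isQCoh (isAffine_D (k := k) (r := 2) c) (M := cokernel φ)).exists_extend f
        (res _ hfU t)
      exact ⟨f, (), hfU, hxf, n, m, hm⟩
    obtain ⟨s, hs⟩ := hloc c m
    obtain ⟨u, hu⟩ := (show IsUnit (resO (P2 k) ((P2 k).basicOpen_le f) f) from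
      RingedSpace.isUnit_res_basicOpen _ f).pow n
    refine ⟨(P2 k).basicOpen f, hle, hxf, ((u⁻¹ : (Γ(P2 k, (P2 k).basicOpen f))ˣ) : Γ(P2 k, (P2 k).basicOpen f)) • res _ ((P2 k).basicOpen_le f) s, ?_⟩
    rw [Scheme.Modules.Hom.app_smul, ← app_res, hs, hm, smul_smul]
    have h1 : ((u⁻¹ : (Γ(P2 k, (P2 k).basicOpen f))ˣ) : Γ(P2 k, (P2 k).basicOpen f)) * resO _ ((P2 k).basicOpen_le f) f ^ n = 1 :=
      Units.inv_mul_of_eq hu
    rw [h1, one_smul]
  let e : (SheafOfModules.free (ULift.{u} (Fin a₃)) : (P2 k).Modules) ⟶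
      ∐ fun _ : Fin a₃ => Coh.structureModule (CohB1.ProjSpace 2 k) :=
    Sigma.desc fun p => Sigma.ι (fun _ : Fin a₃ => Coh.structureModule (CohB1.ProjSpace 2 k)) p.down
  haveI : Epi e := ⟨fun {Z} g g' hg => Sigma.hom_ext _ _ fun p => by
    have := congrArg (fun q => Sigma.ι (fun _ : ULift.{u} (Fin a₃) => Coh.structureModule (CohB1.ProjSpace 2 k))
      ⟨p⟩ ≫ q) hg
    simpa [e] using this⟩
  exact ⟨ULift.{u} (Fin a₃), e ≫ π₁, inferInstance⟩

end Groth.Agent.GaetaGen
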