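import Groth.Agent.GaetaGen.General
import Groth.Agent.PicPn.Chart
import Groth.Agent.ProjMor.ProjSpaceBase
import Groth.Agent.CohFinite.AmpleFinite
import Mathlib.AlgebraicGeometry.IdealSheaf.Functorial
import Mathlib.AlgebraicGeometry.Morphisms.FiniteType
import Mathlib.RingTheory.Jacobson.Ring

/-!
Rational points `(1 : t : 0)` of the plane and the reduced subschemes they form.
-/

set_option autoImplicit false
set_option linter.unusedSectionVars false
set_option linter.style.haveILetI false
set_option backward.isDefEq.respectTransparency false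
set_option maxHeartbeats 1000000

universe u

open CategoryTheory AlgebraicGeometry MvPolynomial TopologicalSpace
open Groth.Agent.RegPow (S D dh isAffine_D X_mem)

noncomputable section

namespace Groth.Agent.GaetaGen

variable {k : Type u} [Field k]

/-- The chart `x₀ ≠ 0` as a polynomial ring. -/
def chartEquiv (k : Type u) [Field k] :
    Γ(P2 k, D (k := k) (0 : Fin 3)) ≃+* MvPolynomial {j : Fin 3 // j ≠ 0} k :=
  (PicPn.exists_chart (k := k) (n := 2) 0).choose

/-- Coordinates of `(1 : t : 0)`. -/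
def coordPt (t : k) : Fin 3 → k := ![1, t, 0]

/-- Evaluation at `(1 : t : 0)`. -/
def evPt (t : k) : Γ(P2 k, D (k := k) (0 : Fin 3)) →+* k :=
  (MvPolynomial.eval fun j : {j : Fin 3 // j ≠ 0} => coordPt t j.1).comp (chartEquiv k).toRingHom

lemma evPt_dh (t : k) (z : S k 2) : evPt t (dh 0 z) = MvPolynomial.eval (coordPt t) z := by
  have h : (evPt t).comp (dh (k := k) 0) = MvPolynomial.eval (coordPt t) := by
    refine MvPolynomial.ringHom_ext (fun c => ?_) fun j => ?_
    · have hc := (PicPn.exists_chart (k := k) (n := 2) 0).choose_spec.2 c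
      change MvPolynomial.eval _ (chartEquiv k (GrT.deh _ (X_mem (0 : Fin 3)) (MvPolynomial.C c))) = _
      rw [show chartEquiv k (GrT.deh _ (X_mem (0 : Fin 3)) (MvPolynomial.C c)) = MvPolynomial.C c from hc,
        eval_C, eval_C]
    · by_cases hj : j = 0
      · subst hj
        change MvPolynomial.eval _ (chartEquiv k (GrT.deh _ (X_mem (0 : Fin 3)) (MvPolynomial.X 0))) = _
        rw [GrT.deh_self, map_one, map_one, eval_X]
        rfl
      · have hX := (PicPn.exists_chart (k := k) (n := 2) 0).choose_spec.1 j hj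
        change MvPolynomial.eval _ (chartEquiv k (GrT.deh _ (X_mem (0 : Fin 3)) (MvPolynomial.X j))) = _
        rw [show chartEquiv k (GrT.deh _ (X_mem (0 : Fin 3)) (MvPolynomial.X j)) = MvPolynomial.X ⟨j, hj⟩ from hX,
          eval_X, eval_X]
  exact RingHom.congr_fun h z

lemma evPt_surjective (t : k) : Function.Surjective (evPt t) := fun c =>
  ⟨dh 0 (MvPolynomial.C c), by rw [evPt_dh, eval_C]⟩

/-- The prime of `(1 : t : 0)`. -/
def primePt (t : k) : PrimeSpectrum Γ(P2 k, D (k := k) (0 : Fin 3)) := ⟨RingHom.ker (evPt t), RingHom.ker_isPrime _⟩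

/-- The point `(1 : t : 0)`. -/
def pt (t : k) : P2 k := (isAffine_D (k := k) (r := 2) 0).fromSpec (primePt t)

lemma pt_mem (t : k) : pt t ∈ D (k := k) (0 : Fin 3) := by
  have h : pt t ∈ Set.range (isAffine_D (k := k) (r := 2) 0).fromSpec := ⟨_, rfl⟩
  rwa [IsAffineOpen.range_fromSpec] at h

lemma mem_basicOpen_pt (t : k) (f : Γ(P2 k, D (k := k) (0 : Fin 3))) :
    pt t ∈ (P2 k).basicOpen f ↔ evPt t f ≠ 0 := by
  have h := (isAffine_D (k := k) (r := 2) 0).fromSpec_preimage_basicOpen f
  have h' : primePt t ∈ (isAffine_D (k := k) (r := 2) 0).fromSpec ⁻¹ᵁ (P2 k).basicOpen f ↔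
      primePt t ∈ PrimeSpectrum.basicOpen f := by rw [h]
  exact h'.trans (by rw [PrimeSpectrum.mem_basicOpen]; exact Iff.rfl)

lemma pt_injective : Function.Injective (pt (k := k)) := fun s t h => by
  by_contra hne
  have h1 := mem_basicOpen_pt s (dh 0 (X 1 - MvPolynomial.C t * X 0))
  rw [h, mem_basicOpen_pt t, evPt_dh, evPt_dh] at h1
  simp [coordPt, sub_eq_zero] at h1
  exact hne h1

lemma isClosed_pt (t : k) : IsClosed ({pt t} : Set (P2 k)) := by
  letI : (P2 k).Over (Spec (CommRingCat.of k)) := inferInstanceAs ((CohB1.ProjSpace 2 k).Over _)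
  haveI : IsProper (P2 k ↘ Spec (CommRingCat.of k)) := ProjMor.isProper_toSpec 2 k
  haveI : JacobsonSpace (P2 k) :=
    LocallyOfFiniteType.jacobsonSpace (P2 k ↘ Spec (CommRingCat.of k))
  have hmax : (primePt t).asIdeal.IsMaximal := RingHom.ker_isMaximal_of_surjective _ (evPt_surjective t)
  have hc : primePt t ∈ closedPoints (PrimeSpectrum Γ(P2 k, D (k := k) (0 : Fin 3))) :=
    (PrimeSpectrum.isClosed_singleton_iff_isMaximal _).2 hmax
  have he := (isAffine_D (k := k) (r := 2) 0).fromSpec.isOpenEmbedding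
  have hc' : (primePt t : ↥(Spec Γ(CohB1.ProjSpace 2 k, D (k := k) (0 : Fin 3)))) ∈
      closedPoints ↥(Spec Γ(CohB1.ProjSpace 2 k, D (k := k) (0 : Fin 3))) := hc
  exact (Set.ext_iff.1 he.preimage_closedPoints (primePt t)).2 hc'

variable {ℓ : ℕ} (t : Fin ℓ → k)

/-- The points as a closed set. -/
def ptSet : Closeds (P2 k) :=
  ⟨Set.range fun j => pt (t j), by
    rw [show (Set.range fun j => pt (t j)) = ⋃ j, {pt (t j)} by ext x; simp [eq_comm]]
    exact isClosed_iUnion_of_finite fun j => isClosed_pt (t j)⟩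

/-- The reduced subscheme formed by the points. -/
def ptIdeal : (P2 k).IdealSheafData := Scheme.IdealSheafData.vanishingIdeal (ptSet t)

lemma support_ptIdeal : ((ptIdeal t).support : Set (P2 k)) = Set.range fun j => pt (t j) := by
  rw [ptIdeal, Scheme.IdealSheafData.coe_support_vanishingIdeal]
  rfl

lemma mem_ideal_iff (f : Γ(P2 k, D (k := k) (0 : Fin 3))) :
    f ∈ (ptIdeal t).ideal ⟨D 0, isAffine_D 0⟩ ↔ ∀ j, evPt (t j) f = 0 := by
  rw [ptIdeal, Scheme.IdealSheafData.vanishingIdeal_ideal, PrimeSpectrum.mem_vanishingIdeal]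
  constructor
  · intro h j
    exact h (primePt (t j)) ⟨j, rfl⟩
  · rintro h p ⟨j, hj⟩
    have hp : p = primePt (t j) := (isAffine_D (k := k) (r := 2) 0).fromSpec.isOpenEmbedding.injective hj.symm
    rw [hp]
    exact h j

lemma card_subscheme (ht : Function.Injective t) : Nat.card ↥(ptIdeal t).subscheme = ℓ := by
  have h1 : Nat.card ↥(ptIdeal t).subscheme = Nat.card (Set.range fun j => pt (t j)) := by
    rw [← support_ptIdeal t, ← Scheme.IdealSheafData.range_subschemeι]
    exact (Nat.card_range_of_injective (ptIdeal t).subschemeι.isClosedEmbedding.injective).symm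
  rw [h1, Nat.card_range_of_injective (f := fun j => pt (t j)) (pt_injective.comp ht), Nat.card_fin]

lemma isReduced_subscheme : AlgebraicGeometry.IsReduced (ptIdeal t).subscheme := by
  haveI : ∀ U : (P2 k).affineOpens, _root_.IsReduced (Γ(P2 k, U.1) ⧸ (ptIdeal t).ideal U) := fun U => by
    rw [← Ideal.isRadical_iff_quotient_reduced, ptIdeal, Scheme.IdealSheafData.vanishingIdeal_ideal]
    exact PrimeSpectrum.isRadical_vanishingIdeal _
  haveI : ∀ U : (ptIdeal t).subschemeCover.openCover.I₀,
      AlgebraicGeometry.IsReduced ((ptIdeal t).subschemeCover.openCover.X U) := fun U => by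
    show AlgebraicGeometry.IsReduced (Spec (CommRingCat.of (Γ(P2 k, U.1) ⧸ (ptIdeal t).ideal U)))
    infer_instance
  exact IsReduced.of_openCover _ (ptIdeal t).subschemeCover.openCover

/-- Interpolation. -/
lemma exists_delta (ht : Function.Injective t) (j : Fin ℓ) :
    ∃ f : Γ(P2 k, D (k := k) (0 : Fin 3)), ∀ i, evPt (t i) f = if i = j then 1 else 0 := by
  classical
  let g : S k 2 := ∏ i ∈ Finset.univ.erase j, (X 1 - MvPolynomial.C (t i) * X 0)
  have hg : ∀ s, MvPolynomial.eval (coordPt s) g = ∏ i ∈ Finset.univ.erase j, (s - t i) := fun s => by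
    simp [g, coordPt]
  have hne : ∏ i ∈ Finset.univ.erase j, (t j - t i) ≠ 0 :=
    Finset.prod_ne_zero_iff.2 fun i hi => sub_ne_zero.2 fun h => (Finset.mem_erase.1 hi).1 (ht h).symm
  refine ⟨dh 0 (MvPolynomial.C (∏ i ∈ Finset.univ.erase j, (t j - t i))⁻¹ * g), fun i => ?_⟩
  rw [evPt_dh, map_mul, eval_C, hg]
  split_ifs with h
  · subst h
    exact inv_mul_cancel₀ hne
  · rw [Finset.prod_eq_zero (f := fun l => t i - t l) (Finset.mem_erase.2 ⟨h, Finset.mem_univ i⟩) (sub_self _), mul_zero]

lemma exists_interp (ht : Function.Injective t) (c : Fin ℓ → k) :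
    ∃ f : Γ(P2 k, D (k := k) (0 : Fin 3)), ∀ i, evPt (t i) f = c i := by
  classical
  choose δ hδ using exists_delta t ht
  refine ⟨∑ j, dh 0 (MvPolynomial.C (c j)) * δ j, fun i => ?_⟩
  rw [map_sum, Finset.sum_eq_single i]
  · rw [map_mul, evPt_dh, eval_C, hδ, if_pos rfl, mul_one]
  · intro j _ hj
    rw [map_mul, hδ, if_neg (Ne.symm hj), mul_zero]
  · exact fun h => absurd (Finset.mem_univ _) h

end Groth.Agent.GaetaGen
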